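import Cfsg.Agent.GStructB.ProductFusion.DD.Shape

/-!
Automorphisms of odd order of products of two dihedral subgroups, change of coordinates.
-/

set_option autoImplicit false
set_option linter.style.haveILetI false
set_option linter.unusedSectionVars false

open Subgroup DihedralGroup

namespace Cfsg.Agent.ProductFusion.DD

open Cfsg.Agent.Techniques.Alperin.Radical

universe u

variable {G : Type u} [Group G] [Finite G] {S : Sylow 2 G} {k l : ℕ}

/-- A rotation of order at least four has a power squaring to the central involution. -/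
lemma exists_root {u : Dk k} (hu : Rot u) (h : u * u ≠ 1) :
    ∃ m : ℕ, u ^ m * u ^ m = zk k := by
  haveI : Fact (Nat.Prime 2) := ⟨Nat.prime_two⟩
  have hd : orderOf u ∣ 2 ^ (k + 1) := by
    have h1 : (r 1 : Dk k) ^ 2 ^ (k + 1) = 1 := r_one_pow_n
    obtain ⟨j, hj⟩ := mem_zpowers_iff.1 hu.mem_zpowers_r
    refine orderOf_dvd_of_pow_eq_one ?_
    rw [← hj, ← zpow_natCast, ← zpow_mul, mul_comm, zpow_mul, zpow_natCast, h1, one_zpow]
  obtain ⟨j, -, hj⟩ := (Nat.dvd_prime_pow Nat.prime_two).1 hd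
  have hj2 : 2 ≤ j := by
    by_contra hlt
    refine h ?_
    rw [← sq]
    exact orderOf_dvd_iff_pow_eq_one.1 (hj ▸ pow_dvd_pow 2 (show j ≤ 1 by omega) |>.trans (by norm_num))
  refine ⟨2 ^ (j - 2), ?_⟩
  rw [← pow_add, ← two_mul, ← pow_succ', show j - 2 + 1 = j - 1 by omega]
  have hpow : Rot (u ^ 2 ^ (j - 1)) := by
    obtain ⟨i, rfl⟩ := hu
    refine (rot_or_refl _).resolve_right fun hr => ?_
    have hm : ∀ m : ℕ, Rot ((r i : Dk k) ^ m) := by
      intro m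
      induction m with
      | zero => rw [pow_zero]; exact rot_one
      | succ m ih => rw [pow_succ]; exact ih.mul ⟨i, rfl⟩
    exact (hm _).not_refl hr
  have h2 : u ^ 2 ^ (j - 1) * u ^ 2 ^ (j - 1) = 1 := by
    rw [← pow_add, ← two_mul, ← pow_succ', show j - 1 + 1 = j by omega, ← hj, pow_orderOf_eq_one]
  refine (hpow.eq_one_or_z h2).resolve_left fun he => ?_
  have := orderOf_dvd_of_pow_eq_one he
  rw [hj, Nat.pow_dvd_pow_iff_le_right (le_refl 2)] at this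
  omega

lemma Rot.pow {u : Dk k} (hu : Rot u) (m : ℕ) : Rot (u ^ m) := by
  induction m with
  | zero => rw [pow_zero]; exact rot_one
  | succ m ih => rw [pow_succ]; exact ih.mul hu

lemma Refl.sq_eq_of_ne {u : Dk k} (h : u * u ≠ 1) : Rot u :=
  rot_of_not_refl fun hr => h hr.sq

namespace Coord

variable (c : Coord S k l) {E : Subgroup G}

lemma inv_pull {g : G} {p q : Dk k × Dk l} (he : g * c.f p * g⁻¹ = c.f q) :
    g⁻¹ * c.f q * g⁻¹⁻¹ = c.f p := by
  rw [← he]; group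

lemma commute_of_pull {g : G} {p q p' q' : Dk k × Dk l} (hp : g * c.f p * g⁻¹ = c.f p')
    (hq : g * c.f q * g⁻¹ = c.f q') (h : p * q = q * p) : p' * q' = q' * p' := by
  refine c.inj ?_
  rw [map_mul, map_mul, ← hp, ← hq, ← c.conj_map_mul, h, c.conj_map_mul]

lemma Big.one_le {c : Coord S k l} (h : c.Big E) : 1 ≤ k := by
  obtain ⟨q, -, hr, hne⟩ := h
  rcases Nat.eq_zero_or_pos k with rfl | hk
  · exfalso
    obtain ⟨m, hm⟩ := exists_root hr hne
    obtain ⟨i, hi⟩ := hr.pow m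
    rw [hi, r_mul_r] at hm
    have h2 : ∀ j : ZMod (2 ^ (0 + 1)), j + j = 0 := by decide
    rw [h2, ← one_def] at hm
    exact z_ne_one hm.symm
  · exact hk

variable (hE : IsCR 2 (S : Subgroup G) E)

include hE

lemma exists_root_mem (hp : c.IsProd E) (hb : c.Big E) :
    ∃ ρ : Dk k, Rot ρ ∧ ρ * ρ = zk k ∧ (ρ, (1 : Dk l)) ∈ c.pre E := by
  obtain ⟨q, hq, hr, hne⟩ := hb
  obtain ⟨m, hm⟩ := exists_root hr hne
  refine ⟨q.1 ^ m, hr.pow m, hm, ?_⟩
  have := pow_mem (hp q hq) m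
  rwa [Prod.pow_def, one_pow] at this

lemma four_right (hs : ¬ c.swap.Big E) : ∃ i, (∀ q ∈ c.pre E, q.2 ∈ Four i) ∧
    ∀ b ∈ Four i, ((1 : Dk k), b) ∈ c.pre E := by
  obtain ⟨i, h1, h2⟩ := c.swap.four_of_small hE fun q hq hr => by
    by_contra h; exact hs ⟨q, hq, hr, h⟩
  exact ⟨i, fun q hq => h1 (q.2, q.1) hq, fun b hb => h2 b hb⟩

/-- With a four-group on the right, the elements with rotation on the left form an invariant set. -/
lemma rot_invariant (hp : c.IsProd E) (hb : c.Big E) (hs : ¬ c.swap.Big E) {g : G}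
    (hg : g ∈ normalizer (E : Set G)) {q q' : Dk k × Dk l} (hq : q ∈ c.pre E) (hr : Rot q.1)
    (he : g * c.f q * g⁻¹ = c.f q') : Rot q'.1 := by
  obtain ⟨i, h4, -⟩ := c.four_right hE hs
  have hkey : ∀ a a' : Dk k × Dk l, a ∈ c.pre E → a' ∈ c.pre E →
      g * c.f a * g⁻¹ = c.f a' → a * a ≠ 1 → Rot a'.1 := by
    intro a a' ha ha' hae hne
    exact Refl.sq_eq_of_ne fun h => c.ne_one_of_pull (c.sq_of_pull hae) hne
      (Prod.ext h (four_sq (h4 a' ha')))
  have hq' : q' ∈ c.pre E := (he ▸ (mem_normalizer_iff.1 hg _).1 hq : c.f q' ∈ E)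
  by_cases hne : q * q = 1
  swap
  · exact hkey q q' hq hq' he hne
  obtain ⟨w, hw, hwr, hwne⟩ := hb
  have hw1 : (w.1, (1 : Dk l)) ∈ c.pre E := hp w hw
  obtain ⟨a, ha, hae⟩ := c.pull hE.fn.le hg hw1
  obtain ⟨b, hb', hbe⟩ := c.pull hE.fn.le hg (mul_mem hw1 hq)
  have h1 : Rot a.1 := hkey _ a hw1 ha hae fun h => hwne (congrArg Prod.fst h)
  have h2 : Rot b.1 := by
    refine hkey _ b (mul_mem hw1 hq) hb' hbe fun h => hwne ?_
    have h' := congrArg Prod.fst h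
    simp only [Prod.fst_mul, Prod.fst_one] at h'
    have hqq : q.1 * q.1 = 1 := congrArg Prod.fst hne
    rw [(show Commute q.1 w.1 from hr.comm hwr).mul_mul_mul_comm, hqq, mul_one] at h'
    exact h'
  have e : q' = a⁻¹ * b := by
    refine c.inj ?_
    rw [map_mul, map_inv, ← hae, ← hbe, ← he, map_mul]; group
  rw [e]
  exact h1.inv.mul h2

/-- With a four-group on the right, the left central involution is fixed. -/
lemma fix_z (hp : c.IsProd E) (hb : c.Big E) (hs : ¬ c.swap.Big E) {g : G}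
    (hg : g ∈ normalizer (E : Set G)) : g * c.f (zk k, 1) * g⁻¹ = c.f (zk k, 1) := by
  obtain ⟨i, h4, -⟩ := c.four_right hE hs
  obtain ⟨ρ, hρ, hρ2, hρm⟩ := c.exists_root_mem hE hp hb
  obtain ⟨a, ha, hae⟩ := c.pull hE.fn.le hg hρm
  have hra : Rot a.1 := c.rot_invariant hE hp hb hs hg hρm hρ hae
  have h1 := c.sq_of_pull hae
  rw [show ((ρ, (1 : Dk l)) : Dk k × Dk l) * (ρ, 1) = (zk k, 1) from Prod.ext hρ2 (one_mul 1)] at h1
  have hne := c.ne_one_of_pull h1 (fun h => z_ne_one (congrArg Prod.fst h))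
  have hz2 : (a * a) * (a * a) = 1 := c.inj (by
    rw [← c.sq_of_pull h1, Prod.mk_mul_mk, z_sq, one_mul, ← Prod.one_eq_mk, map_one]; group)
  rw [h1]
  have h2 : a.2 * a.2 = 1 := four_sq (h4 a ha)
  have h3 : a.1 * a.1 = zk k := ((hra.mul hra).eq_one_or_z (congrArg Prod.fst hz2)).resolve_left
    fun h => hne (Prod.ext h h2)
  rw [show a * a = (zk k, 1) from Prod.ext h3 h2]

/-- With a four-group on the right, an element of odd order fixing the four-group acts trivially. -/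
lemma fix_big_four (hp : c.IsProd E) (hb : c.Big E) (hs : ¬ c.swap.Big E) {g : G}
    (hg : g ∈ normalizer (E : Set G)) (ho : Odd (orderOf g))
    (hfix : ∀ q ∈ c.pre E, g * c.f (1, q.2) * g⁻¹ = c.f (1, q.2)) :
    ∀ x ∈ E, g * x * g⁻¹ = x := by
  haveI : Fact (Nat.Prime 2) := ⟨Nat.prime_two⟩
  obtain ⟨i, h4, -⟩ := c.four_right hE hs
  have hEp : IsPGroup 2 E := S.2.to_le hE.fn.le
  set R : Subgroup G :=
    { carrier := {x | ∃ q ∈ c.pre E, Rot q.1 ∧ c.f q = x}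
      one_mem' := ⟨1, one_mem _, rot_one, map_one _⟩
      mul_mem' := by
        rintro _ _ ⟨a, ha, har, rfl⟩ ⟨b, hb, hbr, rfl⟩
        exact ⟨a * b, mul_mem ha hb, har.mul hbr, map_mul _ _ _⟩
      inv_mem' := by
        rintro _ ⟨a, ha, har, rfl⟩
        exact ⟨a⁻¹, inv_mem ha, har.inv, map_inv _ _⟩ } with hR
  have hRE : R ≤ E := by rintro _ ⟨q, hq, -, rfl⟩; exact hq
  have hR' : ∀ x ∈ R, g * x * g⁻¹ = x := by
    refine fix_abelian ho ?_ ?_ (hEp.to_le hRE) ?_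
    · rintro _ ⟨q, hq, hr, rfl⟩
      obtain ⟨q', hq', he⟩ := c.pull hE.fn.le hg hq
      exact ⟨q', hq', c.rot_invariant hE hp hb hs hg hq hr he, he.symm⟩
    · rintro _ ⟨a, ha, har, rfl⟩ _ ⟨b, hb', hbr, rfl⟩
      rw [← map_mul, ← map_mul]
      exact congrArg c.f (Prod.ext (har.comm hbr) (four_comm (h4 a ha) (h4 b hb')))
    · rintro _ ⟨q, hq, hr, rfl⟩ hqq
      rw [← map_mul] at hqq
      have hq1 := congrArg Prod.fst (c.inj (hqq.trans (map_one _).symm))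
      rw [show q = ((q.1, (1 : Dk l)) : Dk k × Dk l) * (1, q.2) from Prod.ext (by simp) (by simp),
        c.conj_map_mul, hfix q hq, map_mul]
      rcases hr.eq_one_or_z hq1 with e | e <;> rw [e]
      · simp [← Prod.one_eq_mk]
      · rw [c.fix_z hE hp hb hs hg]
  intro x hx
  obtain ⟨q, hq, rfl⟩ := c.exists_pre hE.fn.le hx
  rcases rot_or_refl q.1 with hr | hr
  · exact hR' _ ⟨q, hq, hr, rfl⟩
  obtain ⟨q', hq', he⟩ := c.pull hE.fn.le hg hq
  have hr' : Refl q'.1 := (rot_or_refl q'.1).resolve_left fun hrot =>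
    ((c.rot_invariant hE hp hb hs (inv_mem hg) hq' hrot (c.inv_pull he))).not_refl hr
  have hrR : c.f (q⁻¹ * q') ∈ R :=
    ⟨_, mul_mem (inv_mem hq) hq', by rw [Prod.fst_mul, Prod.fst_inv, hr.inv]; exact hr.mul hr', rfl⟩
  obtain ⟨j, hj⟩ := (hEp.to_le hRE) ⟨_, hrR⟩
  refine fix_of_shift ho (hR' _ hrR) ?_ (k := j) (congrArg Subtype.val hj)
  rw [he, map_mul, map_inv, mul_inv_cancel_left]

/-- With a four-group on the right, the parity of the left coordinate is preserved. -/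
lemma parity_big_four (hp : c.IsProd E) (hb : c.Big E) (hs : ¬ c.swap.Big E) {g : G}
    (hg : g ∈ normalizer (E : Set G)) (ho : Odd (orderOf g)) {a b : Bool} (hab : a ≠ b)
    {q q' : Dk k × Dk l} (hq : q ∈ c.pre E) (he : g * c.f q * g⁻¹ = c.f q') :
    chi l a b q.1 = 1 ↔ chi l a b q'.1 = 1 := by
  obtain ⟨i, h4, -⟩ := c.four_right hE hs
  have hk : 1 ≤ k := hb.one_le
  have hrot : ∀ p p' : Dk k × Dk l, p ∈ c.pre E → Rot p.1 → g * c.f p * g⁻¹ = c.f p' →
      (chi l a b p.1 = 1 ↔ chi l a b p'.1 = 1) := by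
    intro p p' hp' hr hpe
    have hm : p' ∈ c.pre E := (hpe ▸ (mem_normalizer_iff.1 hg _).1 hp' : c.f p' ∈ E)
    rw [chi_rot hab hr, chi_rot hab (c.rot_invariant hE hp hb hs hg hp' hr hpe)]
    have e : ∀ x : Dk k × Dk l, x ∈ c.pre E → (x.1 ^ 2 ^ k = 1 ↔ x ^ 2 ^ k = 1) := by
      intro x hx
      refine ⟨fun h => Prod.ext h ?_, fun h => congrArg Prod.fst h⟩
      show x.2 ^ 2 ^ k = 1
      obtain ⟨m, hm'⟩ : ∃ m, 2 ^ k = 2 * m := ⟨2 ^ (k - 1), by
        rw [← pow_succ', Nat.sub_add_cancel hk]⟩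
      rw [hm', pow_mul, sq, four_sq (h4 x hx), one_pow]
    rw [e p hp', e p' hm]
    constructor
    · intro h
      exact c.inj (by rw [← c.pow_of_pull hpe, h, map_one]; group)
    · intro h
      exact c.inj (by rw [← c.pow_of_pull (c.inv_pull hpe), h, map_one]; group)
  rcases rot_or_refl q.1 with hr | hr
  · exact hrot q q' hq hr he
  set M := ((chi l a b).comp (MonoidHom.fst (Dk k) (Dk l))).ker.map c.f with hM
  have hmem : ∀ p, c.f p ∈ M ↔ chi l a b p.1 = 1 := fun p => mem_map_iff_mem c.inj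
  set R : Subgroup G := ((c.pre E) ⊓ (Subgroup.zpowers (r 1 : Dk k)).comap (MonoidHom.fst (Dk k) (Dk l))).map c.f
    with hR
  have hrotR : ∀ p : Dk k, p ∈ Subgroup.zpowers (r 1 : Dk k) → Rot p := by
    intro p hp'
    obtain ⟨j, rfl⟩ := mem_zpowers_iff.1 hp'
    rcases Int.eq_nat_or_neg j with ⟨m, rfl | rfl⟩
    · rw [zpow_natCast]; exact Rot.pow ⟨1, rfl⟩ m
    · rw [zpow_neg, zpow_natCast]; exact (Rot.pow ⟨1, rfl⟩ m).inv
  have hpar := parity_fix (M := M) (R := R) (x := c.f q) ho ?_ ?_ hg hq ?_ ?_ ?_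
  · rwa [hmem, he, hmem] at hpar
  · rintro _ ⟨p, hp', rfl⟩
    obtain ⟨hp1, hp2⟩ := mem_inf.1 hp'
    obtain ⟨p', hm, hpe⟩ := c.pull hE.fn.le hg hp1
    exact ⟨p', mem_inf.2 ⟨hm, (c.rot_invariant hE hp hb hs hg hp1 (hrotR _ hp2) hpe).mem_zpowers_r⟩,
      hpe.symm⟩
  · rintro _ ⟨p, hp', rfl⟩; exact (mem_inf.1 hp').1
  · have hm : q' ∈ c.pre E := (he ▸ (mem_normalizer_iff.1 hg _).1 hq : c.f q' ∈ E)
    have hr' : Refl q'.1 := (rot_or_refl q'.1).resolve_left fun hrot' =>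
      ((c.rot_invariant hE hp hb hs (inv_mem hg) hm hrot' (c.inv_pull he))).not_refl hr
    refine ⟨q⁻¹ * q', mem_inf.2 ⟨mul_mem (inv_mem hq) hm, ?_⟩, by rw [he, map_mul, map_inv]⟩
    show (q⁻¹ * q').1 ∈ Subgroup.zpowers (r 1 : Dk k)
    rw [Prod.fst_mul, Prod.fst_inv, hr.inv]
    exact (hr.mul hr').mem_zpowers_r
  · intro x hx y hy
    obtain ⟨p, -, rfl⟩ := c.exists_pre hE.fn.le hx
    obtain ⟨p', -, rfl⟩ := c.exists_pre hE.fn.le hy
    rw [← map_mul, hmem, hmem, hmem, Prod.fst_mul, map_mul]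
    rcases chi_mem (a := a) (b := b) (l := l) p.1 with e | e <;>
      rcases chi_mem (a := a) (b := b) (l := l) p'.1 with e' | e' <;>
      simp [e, e', z_sq, z_ne_one]
  · rintro _ ⟨p, hp', rfl⟩
    obtain ⟨hp1, hp2⟩ := mem_inf.1 hp'
    obtain ⟨p', -, hpe⟩ := c.pull hE.fn.le hg hp1
    rw [hmem, hpe, hmem]
    exact hrot p p' hp1 (hrotR _ hp2) hpe

/-- Two large factors: fixing both central involutions gives trivial action. -/
lemma fix_big_big (hp : c.IsProd E) (hb : c.Big E) (hb2 : c.swap.Big E) {g : G}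
    (hg : g ∈ normalizer (E : Set G)) (ho : Odd (orderOf g))
    (h1 : g * c.f (zk k, 1) * g⁻¹ = c.f (zk k, 1)) (h2 : g * c.f (1, zk l) * g⁻¹ = c.f (1, zk l)) :
    ∀ x ∈ E, g * x * g⁻¹ = x := by
  haveI : Fact (Nat.Prime 2) := ⟨Nat.prime_two⟩
  have hEp : IsPGroup 2 E := S.2.to_le hE.fn.le
  -- elements with a rotation on one side
  have key : ∀ {k l : ℕ} (c : Coord S k l), c.IsProd E → c.Big E → c.swap.Big E →
      g * c.f (zk k, 1) * g⁻¹ = c.f (zk k, 1) →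
      ∀ q q', q ∈ c.pre E → Rot q.1 → g * c.f q * g⁻¹ = c.f q' → Rot q'.1 := by
    intro k l c hp hb hb2 h1 q q' hq hr he
    obtain ⟨ρ, hρ, hρ2, hρm⟩ := c.exists_root_mem hE hp hb
    obtain ⟨a, ha, hae⟩ := c.pull hE.fn.le (inv_mem hg) hρm
    have hae' : g * c.f a * g⁻¹ = c.f (ρ, 1) := by rw [← hae]; group
    have ha2 : a * a = (zk k, 1) := by
      refine c.inj ?_
      rw [← c.sq_of_pull hae, Prod.mk_mul_mk, hρ2, one_mul]
      nth_rw 1 [← h1]
      group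
    have hroot : ∀ b ∈ c.pre E, b * b = (zk k, 1) → a * b = b * a := by
      intro b hb' hbb
      obtain ⟨b', hb'm, hbe⟩ := c.pull hE.fn.le hg hb'
      have hb'1 : b' * b' = (zk k, 1) := c.inj (by rw [← c.sq_of_pull hbe, hbb, h1])
      have hrb : Rot b'.1 := Refl.sq_eq_of_ne (by
        rw [← Prod.fst_mul, hb'1]; exact z_ne_one)
      refine c.commute_of_pull (c.inv_pull hae') (c.inv_pull hbe) ?_
      exact Prod.ext (hρ.comm hrb) (by simp)
    have hra : Rot a.1 := Refl.sq_eq_of_ne (by rw [← Prod.fst_mul, ha2]; exact z_ne_one)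
    have hra2 : ∀ y : Dk l, ((1 : Dk k), y) ∈ c.pre E → y * y = 1 → a.2 * y = y * a.2 := by
      intro y hy hyy
      have hm : ((ρ, y) : Dk k × Dk l) ∈ c.pre E := by
        have := mul_mem hρm hy
        simpa using this
      have := hroot _ hm (Prod.ext hρ2 hyy)
      exact congrArg Prod.snd this
    obtain ⟨s, hs, hsr⟩ := c.swap.exists_refl hE
    obtain ⟨w, hw, hwr, hwne⟩ := hb2
    have hs' : ((1 : Dk k), s.1) ∈ c.pre E := hp.right (q := (s.2, s.1)) hs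
    have hw' : ((1 : Dk k), w.1) ∈ c.pre E := hp.right (q := (w.2, w.1)) hw
    have hc1 : a.2 * s.1 = s.1 * a.2 := hra2 _ hs' hsr.sq
    have hc2 : a.2 * (s.1 * w.1) = (s.1 * w.1) * a.2 := hra2 _ (by
      have := mul_mem hs' hw'
      simpa using this) (hsr.mul_rot hwr).sq
    have hcw : a.2 * w.1 = w.1 * a.2 := by
      refine mul_left_cancel (a := s.1) ?_
      rw [← mul_assoc, ← hc1, mul_assoc, hc2, mul_assoc]
    have ha2c : a.2 = 1 ∨ a.2 = zk l := by
      rcases rot_or_refl a.2 with h | h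
      · exact hsr.commute_rot h hc1.symm
      · exfalso
        rcases h.commute_rot hwr hcw with e | e <;> rw [e] at hwne <;> simp [z_sq] at hwne
    have hcq : q * a = a * q := Prod.ext (hr.comm hra) (by
      rcases ha2c with e | e <;> simp [e, z_comm])
    have h3 := congrArg Prod.fst (c.commute_of_pull he hae' hcq)
    refine rot_of_not_refl fun hq' => ?_
    rcases hq'.commute_rot hρ h3 with e | e <;> rw [e] at hρ2
    · exact z_ne_one (by simpa using hρ2.symm)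
    · rw [z_sq] at hρ2; exact z_ne_one hρ2.symm
  have k1 := key c hp hb hb2 h1
  have k2 : ∀ q q', q ∈ c.pre E → Rot q.2 → g * c.f q * g⁻¹ = c.f q' → Rot q'.2 :=
    fun q q' hq hr he => key c.swap hp.swap hb2 hb h2 (q.2, q.1) (q'.2, q'.1) hq hr he
  set R : Subgroup G :=
    { carrier := {x | ∃ q ∈ c.pre E, (Rot q.1 ∧ Rot q.2) ∧ c.f q = x}
      one_mem' := ⟨1, one_mem _, ⟨rot_one, rot_one⟩, map_one _⟩
      mul_mem' := by
        rintro _ _ ⟨a, ha, har, rfl⟩ ⟨b, hb, hbr, rfl⟩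
        exact ⟨a * b, mul_mem ha hb, ⟨har.1.mul hbr.1, har.2.mul hbr.2⟩, map_mul _ _ _⟩
      inv_mem' := by
        rintro _ ⟨a, ha, har, rfl⟩
        exact ⟨a⁻¹, inv_mem ha, ⟨har.1.inv, har.2.inv⟩, map_inv _ _⟩ } with hR
  have hRE : R ≤ E := by rintro _ ⟨q, hq, -, rfl⟩; exact hq
  have hR' : ∀ x ∈ R, g * x * g⁻¹ = x := by
    refine fix_abelian ho ?_ ?_ (hEp.to_le hRE) ?_
    · rintro _ ⟨q, hq, hr, rfl⟩
      obtain ⟨q', hq', he⟩ := c.pull hE.fn.le hg hq
      exact ⟨q', hq', ⟨k1 q q' hq hr.1 he, k2 q q' hq hr.2 he⟩, he.symm⟩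
    · rintro _ ⟨a, ha, har, rfl⟩ _ ⟨b, hb, hbr, rfl⟩
      rw [← map_mul, ← map_mul]
      exact congrArg c.f (Prod.ext (har.1.comm hbr.1) (har.2.comm hbr.2))
    · rintro _ ⟨q, hq, hr, rfl⟩ hqq
      rw [← map_mul] at hqq
      have hqq' := c.inj (hqq.trans (map_one _).symm)
      rw [show q = ((q.1, (1 : Dk l)) : Dk k × Dk l) * (1, q.2) from Prod.ext (by simp) (by simp),
        c.conj_map_mul, map_mul]
      rcases hr.1.eq_one_or_z (congrArg Prod.fst hqq') with e | e <;>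
        rcases hr.2.eq_one_or_z (congrArg Prod.snd hqq') with e' | e' <;> rw [e, e']
      · simp [← Prod.one_eq_mk]
      · rw [h2]; simp [← Prod.one_eq_mk]
      · rw [h1]; simp [← Prod.one_eq_mk]
      · rw [h1, h2]
  have hside : ∀ q ∈ c.pre E, (Rot q.2 ∨ Rot q.1) → g * c.f q * g⁻¹ = c.f q := by
    intro q hq hor
    by_cases hboth : Rot q.1 ∧ Rot q.2
    · exact hR' _ ⟨q, hq, hboth, rfl⟩
    obtain ⟨q', hq', he⟩ := c.pull hE.fn.le hg hq
    have hnb : ¬ (Rot q'.1 ∧ Rot q'.2) := fun h => hboth (by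
      have h3 := hR' _ ⟨q', hq', h, rfl⟩
      nth_rw 2 [← he] at h3
      have h4 : c.f q' = c.f q := mul_left_cancel (mul_right_cancel h3)
      exact c.inj h4 ▸ h)
    have hrR : c.f (q⁻¹ * q') ∈ R := by
      refine ⟨_, mul_mem (inv_mem hq) hq', ?_, rfl⟩
      rcases hor with hr | hr
      · have hr' := k2 q q' hq hr he
        have hf : Refl q.1 := (rot_or_refl q.1).resolve_left fun h => hboth ⟨h, hr⟩
        have hf' : Refl q'.1 := (rot_or_refl q'.1).resolve_left fun h => hnb ⟨h, hr'⟩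
        rw [Prod.fst_mul, Prod.snd_mul, Prod.fst_inv, Prod.snd_inv, hf.inv]
        exact ⟨hf.mul hf', hr.inv.mul hr'⟩
      · have hr' := k1 q q' hq hr he
        have hf : Refl q.2 := (rot_or_refl q.2).resolve_left fun h => hboth ⟨hr, h⟩
        have hf' : Refl q'.2 := (rot_or_refl q'.2).resolve_left fun h => hnb ⟨hr', h⟩
        rw [Prod.fst_mul, Prod.snd_mul, Prod.fst_inv, Prod.snd_inv, hf.inv]
        exact ⟨hr.inv.mul hr', hf.mul hf'⟩
    obtain ⟨j, hj⟩ := (hEp.to_le hRE) ⟨_, hrR⟩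
    refine fix_of_shift ho (hR' _ hrR) ?_ (k := j) (congrArg Subtype.val hj)
    rw [he, map_mul, map_inv, mul_inv_cancel_left]
  intro x hx
  obtain ⟨q, hq, rfl⟩ := c.exists_pre hE.fn.le hx
  rw [show q = ((q.1, (1 : Dk l)) : Dk k × Dk l) * (1, q.2) from Prod.ext (by simp) (by simp),
    c.conj_map_mul, map_mul, hside _ (hp q hq) (Or.inl rot_one), hside _ (hp.right hq) (Or.inr rot_one)]

omit hE

/-- A left factor whose involutions keep trivial right coordinate is strongly closed. -/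
theorem left_stronglyClosed (hsep : ∀ a : Dk k, a * a = 1 → a ≠ 1 → ∀ g : G, ∀ q,
      g * c.f (a, 1) * g⁻¹ = c.f q → q.2 = 1) :
    Cfsg.IsStronglyClosed (c.f.comp (MonoidHom.inl (Dk k) (Dk l))).range (S : Subgroup G) := by
  set Q := (c.f.comp (MonoidHom.inl (Dk k) (Dk l))).range with hQ
  have hmem : ∀ p, c.f p ∈ Q ↔ p.2 = 1 := by
    intro p
    constructor
    · rintro ⟨a, ha⟩
      exact (congrArg Prod.snd (c.inj ha)).symm
    · intro h
      exact ⟨p.1, congrArg c.f (Prod.ext rfl h.symm)⟩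
  refine ⟨fun x hx => by obtain ⟨a, rfl⟩ := hx; exact c.mem _, fun x hx g hg => ?_⟩
  refine (preserved S (Q : Set G) ?_ ?_ x (by obtain ⟨a, rfl⟩ := hx; exact c.mem _) g hg).1 hx
  · intro s hs y hy
    obtain ⟨p, rfl⟩ := c.exists_of_mem hs
    obtain ⟨q, rfl⟩ := c.exists_of_mem hy
    show c.f q ∈ Q ↔ c.f p * c.f q * (c.f p)⁻¹ ∈ Q
    rw [← map_mul, ← map_inv, ← map_mul, hmem, hmem]
    simp [conj_eq_one_iff]
  intro E hE g hg ho y hy hyQ
  rcases c.shape hE with hp | htriv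
  swap
  · rw [htriv g hg ho y hy]; exact hyQ
  obtain ⟨q, hq, rfl⟩ := c.exists_pre hE.fn.le hy
  have hq2 : q.2 = 1 := (hmem q).1 hyQ
  have hrefl : ∀ a : Dk k, Refl a → (a, (1 : Dk l)) ∈ c.pre E →
      g * c.f (a, 1) * g⁻¹ ∈ Q := by
    intro a ha hm
    obtain ⟨q', -, he⟩ := c.pull hE.fn.le hg hm
    rw [he, hmem]
    exact hsep a ha.sq ha.ne_one g q' he
  rcases rot_or_refl q.1 with hr | hr
  swap
  · rw [show q = (q.1, 1) from Prod.ext rfl hq2]
    exact hrefl _ hr (hp q hq)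
  obtain ⟨s, hs, hsr⟩ := c.exists_refl hE
  have h1 : ((s.1 * q.1, (1 : Dk l))) ∈ c.pre E := by
    have := mul_mem (hp s hs) (hp q hq)
    simpa using this
  have := mul_mem (hrefl _ hsr (hp s hs)) (hrefl _ (hsr.mul_rot hr) h1)
  rw [show q = ((s.1, (1 : Dk l)) : Dk k × Dk l) * (s.1 * q.1, 1) from
    Prod.ext (by rw [Prod.fst_mul, ← mul_assoc, hsr.sq, one_mul]) (by simp [hq2]), c.conj_map_mul]
  exact this

/-- Change of coordinates by central homomorphisms. -/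
def twist (χ₁ : Dk k →* Dk l) (χ₂ : Dk l →* Dk k) (h₁ : ∀ a y, χ₁ a * y = y * χ₁ a)
    (h₂ : ∀ b y, χ₂ b * y = y * χ₂ b) (h : ∀ a, χ₂ (χ₁ a) = 1) : Coord S k l where
  f := c.f.comp (MonoidHom.mk' (fun p => (p.1 * χ₂ p.2, p.2 * χ₁ p.1)) fun p q => by
    refine Prod.ext ?_ ?_
    · show p.1 * q.1 * χ₂ (p.2 * q.2) = p.1 * χ₂ p.2 * (q.1 * χ₂ q.2)
      rw [map_mul, (show Commute q.1 (χ₂ p.2) from (h₂ p.2 q.1).symm).mul_mul_mul_comm]
    · show p.2 * q.2 * χ₁ (p.1 * q.1) = p.2 * χ₁ p.1 * (q.2 * χ₁ q.1)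
      rw [map_mul, (show Commute q.2 (χ₁ p.1) from (h₁ p.1 q.2).symm).mul_mul_mul_comm])
  inj := by
    refine (injective_iff_map_eq_one _).2 fun p hp => ?_
    have hp' := c.inj (hp.trans (map_one c.f).symm)
    have e1 : p.1 * χ₂ p.2 = 1 := congrArg Prod.fst hp'
    have e2 : p.2 * χ₁ p.1 = 1 := congrArg Prod.snd hp'
    have hb : p.2 = (χ₁ p.1)⁻¹ := eq_inv_of_mul_eq_one_left e2
    rw [hb, map_inv, h, inv_one, mul_one] at e1
    exact Prod.ext e1 (by rw [hb, e1, map_one, inv_one]; rfl)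
  range := by
    rw [MonoidHom.range_comp, MonoidHom.range_eq_top.2, ← MonoidHom.range_eq_map, c.range]
    refine Finite.surjective_of_injective ((injective_iff_map_eq_one _).2 fun p hp => ?_)
    have e1 : p.1 * χ₂ p.2 = 1 := congrArg Prod.fst hp
    have e2 : p.2 * χ₁ p.1 = 1 := congrArg Prod.snd hp
    have hb : p.2 = (χ₁ p.1)⁻¹ := eq_inv_of_mul_eq_one_left e2
    rw [hb, map_inv, h, inv_one, mul_one] at e1
    exact Prod.ext e1 (by rw [hb, e1, map_one, inv_one]; rfl)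

lemma twist_apply (χ₁ : Dk k →* Dk l) (χ₂ : Dk l →* Dk k) (h₁ : ∀ a y, χ₁ a * y = y * χ₁ a)
    (h₂ : ∀ b y, χ₂ b * y = y * χ₂ b) (h : ∀ a, χ₂ (χ₁ a) = 1) (p : Dk k × Dk l) :
    (c.twist χ₁ χ₂ h₁ h₂ h).f p = c.f (p.1 * χ₂ p.2, p.2 * χ₁ p.1) := rfl

end Coord

end Cfsg.Agent.ProductFusion.DD
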