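import Cfsg.Agent.GStructB.ProductFusion.DD.Fused

/-!
Two nonabelian dihedral factors.
-/

set_option autoImplicit false
set_option linter.style.haveILetI false
set_option linter.unusedSectionVars false

open Subgroup DihedralGroup

namespace Cfsg.Agent.ProductFusion.DD

open Cfsg.Agent.Techniques.Alperin.Radical

universe u

variable {G : Type u} [Group G] [Finite G] {S : Sylow 2 G} {k l : ℕ}

lemma inv_cases {a : Dk k} (h : a * a = 1) (hne : a ≠ 1) : a = zk k ∨ ∃ i, a = sr i := by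
  rcases rot_or_refl a with hr | hr
  · exact Or.inl ((hr.eq_one_or_z h).resolve_left hne)
  · exact Or.inr hr

namespace Coord

variable (c : Coord S k l)

lemma z3_not_to_z1 (hk : 1 ≤ k) (hl : 1 ≤ l) {g : G}
    (hg : g ∈ normalizer ((S : Subgroup G) : Set G)) :
    g * c.f (zk k, zk l) * g⁻¹ ≠ c.f (zk k, 1) := by
  intro hgz
  obtain ⟨w, hw, hww⟩ := z_eq_sq hk
  obtain ⟨v, hv, hvv⟩ := z_eq_sq hl
  have hroot : ∀ b : Dk l, b * b = 1 → ∃ a : Dk k × Dk l, (Rot a.1 ∧ Rot a.2) ∧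
      g⁻¹ * c.f (w, b) * g⁻¹⁻¹ = c.f a := by
    intro b hb
    obtain ⟨a, -, ha⟩ := c.pull le_rfl (inv_mem hg) (p := (w, b)) (c.mem _)
    refine ⟨a, ?_, ha⟩
    have h1 := c.sq_of_pull ha
    rw [show ((w, b) : Dk k × Dk l) * (w, b) = (zk k, 1) from Prod.ext hww hb, ← hgz] at h1
    have h2 : a * a = (zk k, zk l) := c.inj (h1.symm.trans (by group))
    exact ⟨Refl.sq_eq_of_ne (fun h => z_ne_one ((congrArg Prod.fst h2).symm.trans h)),
      Refl.sq_eq_of_ne (fun h => z_ne_one ((congrArg Prod.snd h2).symm.trans h))⟩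
  obtain ⟨a, ha, hae⟩ := hroot (sr 0) (refl_sr 0).sq
  obtain ⟨a', ha', hae'⟩ := hroot (sr 0 * v) ((refl_sr 0).mul_rot hv).sq
  have hc : a * a' = a' * a := Prod.ext (ha.1.comm ha'.1) (ha.2.comm ha'.2)
  have h3 : ((w, sr 0) : Dk k × Dk l) * (w, sr 0 * v) = (w, sr 0 * v) * (w, sr 0) :=
    c.commute_of_pull (g := g) (p := a) (q := a') (by rw [← hae]; group) (by rw [← hae']; group) hc
  have h4 : (sr 0 : Dk l) * (sr 0 * v) = sr 0 * v * sr 0 := congrArg Prod.snd h3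
  rw [mul_assoc] at h4
  rcases (refl_sr (0 : ZMod (2 ^ (l + 1)))).commute_rot hv (mul_left_cancel h4) with e | e <;>
    rw [e] at hvv
  · exact z_ne_one (hvv.symm.trans (one_mul 1))
  · exact z_ne_one (hvv.symm.trans z_sq)

lemma normalizer_fix_z (hk : 1 ≤ k) (hl : 1 ≤ l) {n : G}
    (hn : n ∈ normalizer ((S : Subgroup G) : Set G)) :
    n * c.f (zk k, 1) * n⁻¹ = c.f (zk k, 1) := by
  haveI : Fact (Nat.Prime 2) := ⟨Nat.prime_two⟩
  obtain ⟨w, -, hww⟩ := z_eq_sq hk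
  obtain ⟨v, -, hvv⟩ := z_eq_sq hl
  refine mul_inv_eq_iff_eq_mul.2 (mem_centralizer_singleton_iff.1 ?_)
  refine normalizer_le_of_odd (M := centralizer {c.f (zk k, 1)}) (isCR_self S).fn ?_ ?_ hn
  · intro s hs
    obtain ⟨p, rfl⟩ := c.exists_of_mem (mem_inf.1 hs).1
    rw [mem_centralizer_singleton_iff, ← map_mul, ← map_mul, z_left_central]
  intro g hg ho
  rw [mem_centralizer_singleton_iff]
  have himg : ∀ q : Dk k × Dk l, (q * q) * (q * q) = 1 → q * q ≠ 1 →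
      g * c.f (q * q) * g⁻¹ = c.f (zk k, 1) ∨ g * c.f (q * q) * g⁻¹ = c.f (1, zk l) ∨
        g * c.f (q * q) * g⁻¹ = c.f (zk k, zk l) := by
    intro q h4 hne
    obtain ⟨a, -, ha⟩ := c.pull le_rfl hg (p := q) (c.mem q)
    have h1 := c.sq_of_pull ha
    have h2 : (a * a) * (a * a) = 1 := c.inj (by rw [← c.sq_of_pull h1, h4, map_one]; group)
    have hn := c.ne_one_of_pull h1 hne
    rw [h1]
    rcases (sq_rot a.1).eq_one_or_z (congrArg Prod.fst h2) with e1 | e1 <;>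
      rcases (sq_rot a.2).eq_one_or_z (congrArg Prod.snd h2) with e2 | e2
    · exact absurd (Prod.ext e1 e2) hn
    · exact Or.inr (Or.inl (congrArg c.f (Prod.ext e1 e2)))
    · exact Or.inl (congrArg c.f (Prod.ext e1 e2))
    · exact Or.inr (Or.inr (congrArg c.f (Prod.ext e1 e2)))
  have i1 := himg (w, 1) (by simp [hww, z_sq, ← Prod.one_eq_mk])
    (fun h => z_ne_one (hww.symm.trans (congrArg Prod.fst h)))
  have i2 := himg (1, v) (by simp [hvv, z_sq, ← Prod.one_eq_mk])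
    (fun h => z_ne_one (hvv.symm.trans (congrArg Prod.snd h)))
  have i3 := himg (w, v) (by simp [hww, hvv, z_sq, ← Prod.one_eq_mk])
    (fun h => z_ne_one (hww.symm.trans (congrArg Prod.fst h)))
  simp only [Prod.mk_mul_mk, hww, hvv, one_mul] at i1 i2 i3
  have h3 : g * c.f (zk k, zk l) * g⁻¹ = c.f (zk k, zk l) :=
    (i3.resolve_left (c.z3_not_to_z1 hk hl hg)).resolve_left (c.swap.z3_not_to_z1 hl hk hg)
  have := fix_of_three ho h3 (fun h => z_ne_one (congrArg Prod.snd (c.inj h)))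
    (fun h => z_ne_one (congrArg Prod.fst (c.inj h))) (by tauto) (by tauto) (b := c.f (zk k, 1))
    (c := c.f (1, zk l))
  exact mul_inv_eq_iff_eq_mul.1 this

lemma hnc_of_big (hk : 1 ≤ k) (hl : 1 ≤ l) : ∀ p : Dk k × Dk l, (∀ r, p * r = r * p) →
    IsConj (c.f (zk k, 1)) (c.f p) → p = (zk k, 1) := by
  intro p hp h
  obtain ⟨n, hn, hne⟩ := c.center_conj (z_left_central) hp h
  rw [c.normalizer_fix_z hk hl hn] at hne
  exact (c.inj hne).symm

/-- Every reflection of the first factor is a conjugate of its central involution. -/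
def Clean (c : Coord S k l) : Prop :=
  ∀ i, IsConj (c.f (zk k, 1)) (c.f (sr i, 1))

lemma clean_of_two (h0 : IsConj (c.f (zk k, 1)) (c.f (sr 0, 1)))
    (h1 : IsConj (c.f (zk k, 1)) (c.f (sr 1, 1))) : c.Clean := fun i => by
  obtain ⟨d, hd | hd⟩ := exists_shift i 0
  · exact h0.trans (c.isConj_sr hd 1)
  · rw [zero_add] at hd; exact h1.trans (c.isConj_sr hd 1)

include c in
theorem exists_clean (hk : 1 ≤ k) (hl : 1 ≤ l)
    (h2 : ∀ N : Subgroup G, N.Normal → N.index ≠ 2) :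
    ∃ c' : Coord S k l, c'.Clean ∧ c'.swap.Clean := by
  have hcen : ∀ {m : ℕ}, 1 ≤ m → ∀ b : Dk m, (∀ y, b * y = y * b) →
      ∃ t : Bool, b = if t then zk m else 1 := by
    intro m hm b hb
    rcases central_eq hm hb with rfl | rfl
    · exact ⟨false, rfl⟩
    · exact ⟨true, rfl⟩
  obtain ⟨b0, hb0, hc0⟩ := c.exists_fused hk h2 (c.hnc_of_big hk hl) 0
  obtain ⟨b1, hb1, hc1⟩ := c.exists_fused hk h2 (c.hnc_of_big hk hl) 1
  obtain ⟨d0, hd0, hd0c⟩ := c.swap.exists_fused hl h2 (c.swap.hnc_of_big hl hk) 0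
  obtain ⟨d1, hd1, hd1c⟩ := c.swap.exists_fused hl h2 (c.swap.hnc_of_big hl hk) 1
  obtain ⟨s0, rfl⟩ := hcen hl b0 hb0
  obtain ⟨s1, rfl⟩ := hcen hl b1 hb1
  obtain ⟨t0, rfl⟩ := hcen hk d0 hd0
  obtain ⟨t1, rfl⟩ := hcen hk d1 hd1
  have hz1 : ∀ a y, chi (k := k) l s0 s1 a * y = y * chi (k := k) l s0 s1 a := fun a y => by
    rcases chi_mem (a := s0) (b := s1) (l := l) a with e | e <;> rw [e] <;> simp [z_comm]
  have hz2 : ∀ a y, chi (k := l) k t0 t1 a * y = y * chi (k := l) k t0 t1 a := fun a y => by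
    rcases chi_mem (a := t0) (b := t1) (l := k) a with e | e <;> rw [e] <;> simp [z_comm]
  have hcomp : ∀ a, chi (k := l) k t0 t1 (chi (k := k) l s0 s1 a) = 1 := fun a => by
    rcases chi_mem (a := s0) (b := s1) (l := l) a with e | e <;> rw [e]
    · exact map_one _
    · exact chi_z hl
  set c' := c.twist (chi l s0 s1) (chi k t0 t1) hz1 hz2 hcomp with hc'
  have hL : ∀ a, c'.f (a, 1) = c.f (a, chi (k := k) l s0 s1 a) := fun a => by
    rw [hc', twist_apply]; simp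
  have hR : ∀ b, c'.swap.f (b, 1) = c.swap.f (b, chi (k := l) k t0 t1 b) := fun b => by
    rw [swap_apply, swap_apply, hc', twist_apply]; simp
  obtain ⟨es0, es1⟩ := chi_sr (k := k) (l := l) s0 s1
  obtain ⟨et0, et1⟩ := chi_sr (k := l) (l := k) t0 t1
  refine ⟨c', c'.clean_of_two ?_ ?_, c'.swap.clean_of_two ?_ ?_⟩
  · rw [hL, hL, chi_z hk, es0]; exact hc0
  · rw [hL, hL, chi_z hk, es1]; exact hc1
  · rw [hR, hR, chi_z hl, et0]; exact hd0c
  · rw [hR, hR, chi_z hl, et1]; exact hd1c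

lemma clean_third (hk : 1 ≤ k) (hl : 1 ≤ l) (h1 : c.Clean) (h2 : c.swap.Clean)
    (i : ZMod (2 ^ (k + 1))) (j : ZMod (2 ^ (l + 1))) :
    IsConj (c.f (zk k, zk l)) (c.f (sr i, zk l)) ∧ IsConj (c.f (zk k, sr j)) (c.f (sr i, sr j)) := by
  obtain ⟨w, hw, hww⟩ := z_eq_sq hk
  obtain ⟨v, hv, hvv⟩ := z_eq_sq hl
  have hnc := c.hnc_of_big hk hl
  have hz12 : ¬ IsConj (c.f (zk k, 1)) (c.f (1, zk l)) := fun h =>
    z_ne_one (congrArg Prod.fst (hnc (1, zk l) (fun r => Prod.ext (by simp) (z_comm r.2)) h)).symm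
  have hS := c.quad_setting hz12 hw hww i j
  have hx := c.tv_left hw hww i j
  obtain ⟨t, ht⟩ := c.exists_tv hw hww (mem_quad.2 ⟨sr_mem_four i, one_mem (Four j)⟩) (h1 i)
  have hx2 : TV (c.quad i j) (c.f (1, v)) (c.f (1, zk l)) := by
    have := c.swap.tv_left hv hvv j i
    rwa [c.swap_quad] at this
  obtain ⟨τ, hτ⟩ := c.swap.exists_tv hv hvv (i := j) (j := i)
    (mem_quad.2 ⟨sr_mem_four j, one_mem (Four i)⟩) (h2 j)
  rw [c.swap_quad] at hτ
  have hτ' : TV (c.quad i j) τ (c.f (1, sr j)) := hτ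
  have hsrj : ¬ IsConj (c.f (zk k, 1)) (c.f (1, sr j)) := fun h =>
    hz12 (h.trans (show IsConj (c.f (1, zk l)) (c.f (1, sr j)) from h2 j).symm)
  have hne : c.f (zk k, 1) ≠ c.f (sr i, 1) := fun h =>
    (refl_sr i).ne_z (congrArg Prod.fst (c.inj h)).symm
  obtain ⟨m1, m2⟩ := hS.move hx ht (IsConj.refl _) (h1 i) hne
  obtain ⟨-, hu, hufix⟩ := hS.third hx ht m1 m2
  set u := c.f (w, 1) * t * (c.f (w, 1))⁻¹
  have hz2u : u * c.f (1, zk l) * u⁻¹ = c.f (1, zk l) := hufix _ hx2.mem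
    (hS.mixed hx hx2 (IsConj.refl _) hz12).1 (hS.mixed ht hx2 (h1 i) hz12).1
  have hsju : u * c.f (1, sr j) * u⁻¹ = c.f (1, sr j) := hufix _ hτ'.mem
    (hS.mixed hx hτ' (IsConj.refl _) hsrj).1 (hS.mixed ht hτ' (h1 i) hsrj).1
  constructor <;> refine isConj_iff.2 ⟨u, ?_⟩
  · rw [show ((zk k, zk l) : Dk k × Dk l) = (zk k, 1) * (1, zk l) by simp, c.conj_map_mul, hu, hz2u,
      ← map_mul]
    simp
  · rw [show ((zk k, sr j) : Dk k × Dk l) = (zk k, 1) * (1, sr j) by simp, c.conj_map_mul, hu, hsju,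
      ← map_mul]
    simp

lemma clean_class (hk : 1 ≤ k) (hl : 1 ≤ l) (h1 : c.Clean) (h2 : c.swap.Clean) {a : Dk k}
    {b : Dk l} (ha : a * a = 1) (ha1 : a ≠ 1) (hb : b * b = 1) (hb1 : b ≠ 1) :
    IsConj (c.f (zk k, zk l)) (c.f (a, b)) := by
  have hz : ∀ j, IsConj (c.f (zk k, zk l)) (c.f (zk k, sr j)) := fun j =>
    (c.swap.clean_third hl hk h2 h1 j 0).1
  rcases inv_cases ha ha1 with rfl | ⟨i, rfl⟩ <;> rcases inv_cases hb hb1 with rfl | ⟨j, rfl⟩
  · exact IsConj.refl _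
  · exact hz j
  · exact (c.clean_third hk hl h1 h2 i 0).1
  · exact (hz j).trans (c.clean_third hk hl h1 h2 i j).2

lemma clean_sep (hk : 1 ≤ k) (hl : 1 ≤ l) (h1 : c.Clean) (h2 : c.swap.Clean) :
    ∀ a : Dk k, a * a = 1 → a ≠ 1 → ∀ g : G, ∀ q, g * c.f (a, 1) * g⁻¹ = c.f q → q.2 = 1 := by
  intro a ha ha1 g q he
  by_contra hq
  have hq2 : q * q = 1 := c.inj (by
    rw [← c.sq_of_pull he, show ((a, (1 : Dk l)) : Dk k × Dk l) * (a, 1) = 1 from Prod.ext ha (one_mul 1),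
      map_one]
    group)
  have hza : IsConj (c.f (zk k, 1)) (c.f q) := by
    refine IsConj.trans ?_ (isConj_iff.2 ⟨g, he⟩)
    rcases inv_cases ha ha1 with rfl | ⟨i, rfl⟩
    · exact IsConj.refl _
    · exact h1 i
  have hb := congrArg Prod.snd hq2
  by_cases hq1 : q.1 = 1
  · have hq' : q = (1, q.2) := Prod.ext hq1 rfl
    rw [hq'] at hza
    have h3 : IsConj (c.f (zk k, 1)) (c.f (1, zk l)) := by
      rcases inv_cases hb hq with e | ⟨j, e⟩ <;> rw [e] at hza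
      · exact hza
      · exact hza.trans (h2 j).symm
    exact z_ne_one (congrArg Prod.fst
      (c.hnc_of_big hk hl (1, zk l) (fun r => Prod.ext (by simp) (z_comm r.2)) h3)).symm
  · have h3 := hza.trans (c.clean_class hk hl h1 h2 (congrArg Prod.fst hq2) hq1 hb hq).symm
    exact z_ne_one (congrArg Prod.snd (c.hnc_of_big hk hl (zk k, zk l)
      (fun r => Prod.ext (z_comm r.1) (z_comm r.2)) h3))

include c in
/-- Two nonabelian dihedral factors: product fusion after a change of coordinates. -/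
theorem stronglyClosed_big (hk : 1 ≤ k) (hl : 1 ≤ l)
    (h2 : ∀ N : Subgroup G, N.Normal → N.index ≠ 2) : ∃ c' : Coord S k l,
      Cfsg.IsStronglyClosed (c'.f.comp (MonoidHom.inl (Dk k) (Dk l))).range (S : Subgroup G) ∧
      Cfsg.IsStronglyClosed (c'.swap.f.comp (MonoidHom.inl (Dk l) (Dk k))).range (S : Subgroup G) := by
  obtain ⟨c', h1', h2'⟩ := c.exists_clean hk hl h2
  refine ⟨c', c'.left_stronglyClosed (c'.clean_sep hk hl h1' h2'),
    c'.swap.left_stronglyClosed (c'.swap.clean_sep hl hk h2' h1')⟩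

end Coord

end Cfsg.Agent.ProductFusion.DD
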