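import Cfsg.Agent.GStructB.ProductFusion.DD.CaseA

/-!
A nonabelian dihedral factor times a four-group.
-/

set_option autoImplicit false
set_option linter.style.haveILetI false
set_option linter.unusedSectionVars false

open Subgroup DihedralGroup

namespace Cfsg.Agent.ProductFusion.DD

open Cfsg.Agent.Techniques.Alperin.Radical Cfsg.Agent.Techniques.Alperin.Basic

universe u

variable {G : Type u} [Group G] [Finite G] {S : Sylow 2 G} {k : ℕ}

lemma v_comm : ∀ a b : Dk 0, a * b = b * a := by decide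

lemma v_sq : ∀ a : Dk 0, a * a = 1 := by decide

lemma v_four (j : ZMod (2 ^ (0 + 1))) (b : Dk 0) : b ∈ Four j :=
  mem_centralizer_singleton_iff.2 (v_comm b (sr j))

lemma v_three_aux : ∀ a b v : Dk 0,
    a = 1 ∨ b = 1 ∨ a = b ∨ v = 1 ∨ v = a ∨ v = b ∨ v = a * b := by decide

lemma v_three (a b : Dk 0) (ha : a ≠ 1) (hb : b ≠ 1) (hab : a ≠ b) (v : Dk 0) :
    v = 1 ∨ v = a ∨ v = b ∨ v = a * b :=
  (((v_three_aux a b v).resolve_left ha).resolve_left hb).resolve_left hab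

/-- The homomorphism to the four-group with given values on two reflections. -/
def chiV (a b : Dk 0) : Dk k →* Dk 0 :=
  @dihLift k (Dk 0) { (inferInstance : Group (Dk 0)) with mul_comm := v_comm } a b (v_sq a) (v_sq b)

lemma chiV_sr (a b : Dk 0) : chiV (k := k) a b (sr 0) = a ∧ chiV (k := k) a b (sr 1) = b :=
  @dihLift_sr k (Dk 0) { (inferInstance : Group (Dk 0)) with mul_comm := v_comm } a b (v_sq a) (v_sq b)

lemma TV.transport {E E' : Subgroup G} {σ d n : G} (h : TV E' σ d)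
    (hmap : ∀ y, y ∈ E ↔ n * y * n⁻¹ ∈ E') : TV E (n⁻¹ * σ * n) (n⁻¹ * d * n) := by
  refine ⟨?_, ?_, fun e => h.ne ?_, fun y hy => ?_, ?_⟩
  · rw [mem_normalizer_iff]
    intro y
    rw [hmap, hmap, mem_normalizer_iff.1 h.norm,
      show n * (n⁻¹ * σ * n * y * (n⁻¹ * σ * n)⁻¹) * n⁻¹ = σ * (n * y * n⁻¹) * σ⁻¹ by group]
  · rw [hmap, show n * (n⁻¹ * d * n) * n⁻¹ = d by group]; exact h.mem
  · rw [show d = n * (n⁻¹ * d * n) * n⁻¹ by group, e]; group
  · rw [show n⁻¹ * σ * n * y * (n⁻¹ * σ * n)⁻¹ = n⁻¹ * (σ * (n * y * n⁻¹) * σ⁻¹) * n by group]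
    rcases h.dich _ ((hmap y).1 hy) with e | e <;> rw [e]
    · left; group
    · right; group
  · obtain ⟨y, hy, e⟩ := h.moved
    refine ⟨n⁻¹ * y * n, by rw [hmap, show n * (n⁻¹ * y * n) * n⁻¹ = y by group]; exact hy, ?_⟩
    calc n⁻¹ * σ * n * (n⁻¹ * y * n) * (n⁻¹ * σ * n)⁻¹ = n⁻¹ * (σ * y * σ⁻¹) * n := by group
      _ = _ := by rw [e]; group

namespace Coord

variable (c : Coord S k 0)

lemma central0 {p : Dk k × Dk 0} (h : p.1 = 1 ∨ p.1 = zk k) : ∀ r, p * r = r * p := fun r =>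
  Prod.ext (by rcases h with e | e <;> simp [e, z_comm]) (v_comm _ _)

lemma normalizer_fix_z0 (hk : 1 ≤ k) {n : G} (hn : n ∈ normalizer ((S : Subgroup G) : Set G)) :
    n * c.f (zk k, 1) * n⁻¹ = c.f (zk k, 1) := by
  obtain ⟨w, -, hww⟩ := z_eq_sq hk
  obtain ⟨a, -, ha⟩ := c.pull le_rfl hn (p := (w, 1)) (c.mem _)
  have h1 := c.sq_of_pull ha
  rw [show ((w, 1) : Dk k × Dk 0) * (w, 1) = (zk k, 1) from Prod.ext hww (one_mul 1)] at h1
  have hne := c.ne_one_of_pull h1 (fun h => z_ne_one (congrArg Prod.fst h))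
  have h2 : (a * a) * (a * a) = 1 := c.inj (by
    rw [← c.sq_of_pull h1, Prod.mk_mul_mk, z_sq, one_mul, ← Prod.one_eq_mk, map_one]; group)
  rw [h1]
  refine congrArg c.f (Prod.ext ?_ (v_sq _))
  exact ((sq_rot a.1).eq_one_or_z (congrArg Prod.fst h2)).resolve_left
    fun e => hne (Prod.ext e (v_sq _))

lemma hnc_of_four (hk : 1 ≤ k) : ∀ p : Dk k × Dk 0, (∀ r, p * r = r * p) →
    IsConj (c.f (zk k, 1)) (c.f p) → p = (zk k, 1) := by
  intro p hp h
  obtain ⟨n, hn, hne⟩ := c.center_conj z_left_central hp h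
  rw [c.normalizer_fix_z0 hk hn] at hne
  exact (c.inj hne).symm

include c in
theorem exists_clean0 (hk : 1 ≤ k) (h2 : ∀ N : Subgroup G, N.Normal → N.index ≠ 2) :
    ∃ c' : Coord S k 0, c'.Clean := by
  obtain ⟨b0, -, hc0⟩ := c.exists_fused hk h2 (c.hnc_of_four hk) 0
  obtain ⟨b1, -, hc1⟩ := c.exists_fused hk h2 (c.hnc_of_four hk) 1
  obtain ⟨w, -, hww⟩ := z_eq_sq hk
  set c' := c.twist (chiV b0 b1) 1 (fun a y => v_comm _ y) (fun b y => by simp) (fun a => rfl) with hc'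
  have hL : ∀ a, c'.f (a, 1) = c.f (a, chiV (k := k) b0 b1 a) := fun a => by
    rw [hc', twist_apply]; simp
  have hz : chiV (k := k) b0 b1 (zk k) = 1 := by rw [← hww, map_mul, v_sq]
  refine ⟨c', c'.clean_of_two ?_ ?_⟩
  · rw [hL, hL, hz, (chiV_sr b0 b1).1]; exact hc0
  · rw [hL, hL, hz, (chiV_sr b0 b1).2]; exact hc1

lemma quad_setting0 (hk : 1 ≤ k) {w : Dk k} (hw : Rot w) (hww : w * w = zk k)
    (i : ZMod (2 ^ (k + 1))) : Setting S (c.quad i 0) (c.f (zk k, 1)) (c.f (w, 1)) :=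
  c.quad_setting (fun h => z_ne_one (congrArg Prod.fst
    (c.hnc_of_four hk (1, zk 0) (central0 (Or.inl rfl)) h)).symm) hw hww i 0

lemma mem_quad0 {i : ZMod (2 ^ (k + 1))} {p : Dk k × Dk 0} (h : p.1 ∈ Four i) :
    c.f p ∈ c.quad i 0 := mem_quad.2 ⟨h, v_four 0 _⟩

/-- The three transvection centres at a subgroup of order sixteen. -/
lemma three_tv (hk : 1 ≤ k) (hcl : c.Clean) {w : Dk k} (hw : Rot w) (hww : w * w = zk k)
    (i : ZMod (2 ^ (k + 1))) : ∃ t, TV (c.quad i 0) t (c.f (sr i, 1)) ∧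
      t * c.f (zk k, 1) * t⁻¹ = c.f (zk k, 1) * c.f (sr i, 1) ∧
      TV (c.quad i 0) (c.f (w, 1) * t * (c.f (w, 1))⁻¹) (c.f (sr i, 1) * c.f (zk k, 1)) ∧
      (c.f (w, 1) * t * (c.f (w, 1))⁻¹) * c.f (zk k, 1) * (c.f (w, 1) * t * (c.f (w, 1))⁻¹)⁻¹ =
        c.f (sr i, 1) ∧
      (∀ e ∈ c.quad i 0, c.f (w, 1) * e * (c.f (w, 1))⁻¹ = e → t * e * t⁻¹ = e →
        (c.f (w, 1) * t * (c.f (w, 1))⁻¹) * e * (c.f (w, 1) * t * (c.f (w, 1))⁻¹)⁻¹ = e) ∧
      ∀ σ d, TV (c.quad i 0) σ d → IsConj (c.f (zk k, 1)) d →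
        d = c.f (zk k, 1) ∨ d = c.f (sr i, 1) ∨ d = c.f (sr i, 1) * c.f (zk k, 1) := by
  have hS := c.quad_setting0 hk hw hww i
  have hx := c.tv_left hw hww i 0
  obtain ⟨t, ht⟩ := c.exists_tv hw hww (mem_quad.2 ⟨sr_mem_four i, one_mem (Four 0)⟩) (hcl i)
  have hne : c.f (zk k, 1) ≠ c.f (sr i, 1) := fun h =>
    (refl_sr i).ne_z (congrArg Prod.fst (c.inj h)).symm
  obtain ⟨m1, m2⟩ := hS.move hx ht (IsConj.refl _) (hcl i) hne
  obtain ⟨hu, huz, hufix⟩ := hS.third hx ht m1 m2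
  exact ⟨t, ht, m2, hu, huz, hufix, fun σ d hσ hd =>
    hS.three hx ht hσ (IsConj.refl _) (hcl i) hd hne⟩

/-- A central element fixed by every transvection with centre conjugate to the central involution. -/
def Fixed (c : Coord S k 0) (i : ZMod (2 ^ (k + 1))) (p : Dk k × Dk 0) : Prop :=
  (p.1 = 1 ∨ p.1 = zk k) ∧ ∀ σ d, TV (c.quad i 0) σ d → IsConj (c.f (zk k, 1)) d →
    σ * c.f p * σ⁻¹ = c.f p

lemma x_fix_central {w : Dk k} {p : Dk k × Dk 0} (hp : p.1 = 1 ∨ p.1 = zk k) :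
    c.f (w, 1) * c.f p * (c.f (w, 1))⁻¹ = c.f p := by
  rw [← map_mul, ← central0 hp, map_mul, mul_inv_cancel_right]

lemma fixed_of_t (hk : 1 ≤ k) (hcl : c.Clean) {w : Dk k} (hw : Rot w) (hww : w * w = zk k)
    {i : ZMod (2 ^ (k + 1))} {t : G} (ht : TV (c.quad i 0) t (c.f (sr i, 1))) {p : Dk k × Dk 0}
    (hp : p.1 = 1 ∨ p.1 = zk k) (hfix : t * c.f p * t⁻¹ = c.f p) : c.Fixed i p := by
  have hS := c.quad_setting0 hk hw hww i
  have hx := c.tv_left hw hww i 0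
  have hmem : c.f p ∈ c.quad i 0 := c.mem_quad0 (by
    rcases hp with e | e <;> rw [e]
    · exact one_mem _
    · exact z_mem_four i)
  obtain ⟨t', ht', -, hu, -, hufix, hthree⟩ := c.three_tv hk hcl hw hww i
  have hsame := hS.same_centre ht' ht (hcl i)
  refine ⟨hp, fun σ d hσ hd => ?_⟩
  rcases hthree σ d hσ hd with rfl | rfl | rfl
  · rw [hS.same_centre hσ hx (IsConj.refl _) _ hmem]; exact c.x_fix_central hp
  · rw [hS.same_centre hσ ht (hcl i) _ hmem]; exact hfix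
  · rw [hS.same_centre hσ hu hd _ hmem]
    exact hufix _ hmem (c.x_fix_central hp) (by rw [hsame _ hmem]; exact hfix)

lemma Fixed.not_both {c : Coord S k 0} {i : ZMod (2 ^ (k + 1))} (hk : 1 ≤ k) (hcl : c.Clean)
    {p : Dk k × Dk 0} (h : c.Fixed i p) (h' : c.Fixed i ((zk k, 1) * p)) : False := by
  obtain ⟨w, hw, hww⟩ := z_eq_sq hk
  obtain ⟨t, ht, htz, -⟩ := c.three_tv hk hcl hw hww i
  have h1 := h'.2 t _ ht (hcl i)
  rw [c.conj_map_mul, h.2 t _ ht (hcl i), map_mul, htz] at h1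
  have h2 : c.f (sr i, 1) = 1 := mul_eq_left.1 (mul_right_cancel h1)
  exact (refl_sr i).ne_one (congrArg Prod.fst (c.inj (h2.trans (map_one c.f).symm)))

lemma Fixed.mul {c : Coord S k 0} {i : ZMod (2 ^ (k + 1))} {p q : Dk k × Dk 0} (h : c.Fixed i p)
    (h' : c.Fixed i q) : c.Fixed i (p * q) := by
  refine ⟨?_, fun σ d hσ hd => by rw [c.conj_map_mul, h.2 σ d hσ hd, h'.2 σ d hσ hd, map_mul]⟩
  rw [Prod.fst_mul]
  rcases h.1 with e | e <;> rcases h'.1 with e' | e' <;> simp [e, e', z_sq]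

lemma exists_fixed (hk : 1 ≤ k) (hcl : c.Clean) (i : ZMod (2 ^ (k + 1))) :
    ∃ χ : Dk 0 →* Dk k, (∀ v, χ v = 1 ∨ χ v = zk k) ∧ (∀ v, c.Fixed i (χ v, v)) ∧
      ∀ p, c.Fixed i p → p.1 = χ p.2 := by
  obtain ⟨w, hw, hww⟩ := z_eq_sq hk
  obtain ⟨t, ht, htz, -⟩ := c.three_tv hk hcl hw hww i
  have hone : ∀ v : Dk 0, ∃ e : Dk k, (e = 1 ∨ e = zk k) ∧ c.Fixed i (e, v) := by
    intro v
    rcases ht.dich (c.f (1, v)) (c.mem_quad0 (one_mem _)) with h | h
    · exact ⟨1, Or.inl rfl, c.fixed_of_t hk hcl hw hww ht (Or.inl rfl) h⟩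
    · refine ⟨zk k, Or.inr rfl, c.fixed_of_t hk hcl hw hww ht (Or.inr rfl) ?_⟩
      rw [show ((zk k, v) : Dk k × Dk 0) = (zk k, 1) * (1, v) by simp, c.conj_map_mul, htz, h,
        ← map_mul, ← map_mul, ← map_mul]
      refine congrArg c.f (Prod.ext ?_ (by simp))
      simp only [Prod.fst_mul, mul_one, one_mul]
      rw [mul_assoc, (refl_sr i).sq, mul_one]
  have huniq : ∀ p, c.Fixed i p → ∀ e : Dk k, c.Fixed i (e, p.2) → p.1 = e := by
    intro p hp e he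
    by_contra hne
    refine Fixed.not_both hk hcl hp ?_
    convert he using 1
    refine Prod.ext ?_ (by simp)
    show zk k * p.1 = e
    rcases hp.1 with e1 | e1 <;> rcases he.1 with e2 | e2
    · exact absurd (e1.trans e2.symm) hne
    · rw [e1, mul_one]; exact e2.symm
    · rw [e1, z_sq]; exact e2.symm
    · exact absurd (e1.trans e2.symm) hne
  choose e he hF using hone
  refine ⟨MonoidHom.mk' e fun a b => ?_, he, hF, fun p hp => huniq p hp _ (hF p.2)⟩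
  exact (huniq _ (Fixed.mul (hF a) (hF b)) _ (hF (a * b))).symm

lemma pull_central {n : G} (hn : n ∈ normalizer ((S : Subgroup G) : Set G)) {p : Dk k × Dk 0}
    (hk : 1 ≤ k) (hp : p.1 = 1 ∨ p.1 = zk k) :
    ∃ p', (p'.1 = 1 ∨ p'.1 = zk k) ∧ n * c.f p * n⁻¹ = c.f p' := by
  obtain ⟨p', -, he⟩ := c.pull le_rfl hn (p := p) (c.mem p)
  refine ⟨p', central_eq hk fun y => ?_, he⟩
  obtain ⟨q, -, hq⟩ := c.pull le_rfl (inv_mem hn) (p := (y, 1)) (c.mem _)
  exact congrArg Prod.fst (c.commute_of_pull he (show n * c.f q * n⁻¹ = c.f (y, 1) by rw [← hq]; group)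
    (central0 hp q))

lemma fixed_transport {i i' : ZMod (2 ^ (k + 1))} {n : G}
    (hmap : ∀ y, y ∈ c.quad i 0 ↔ n * y * n⁻¹ ∈ c.quad i' 0)
    (hz : n * c.f (zk k, 1) * n⁻¹ = c.f (zk k, 1)) {p p' : Dk k × Dk 0} (hp : c.Fixed i p)
    (hp' : p'.1 = 1 ∨ p'.1 = zk k) (he : n * c.f p * n⁻¹ = c.f p') : c.Fixed i' p' := by
  refine ⟨hp', fun σ d hσ hd => ?_⟩
  have h1 := hp.2 _ _ (hσ.transport hmap) (hd.trans (isConj_iff.2 ⟨n⁻¹, by group⟩))
  rw [← he]
  calc σ * (n * c.f p * n⁻¹) * σ⁻¹ =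
      n * (n⁻¹ * σ * n * c.f p * (n⁻¹ * σ * n)⁻¹) * n⁻¹ := by group
    _ = _ := by rw [h1]

lemma fixed_normalizer (hk : 1 ≤ k) {n : G} (hn : n ∈ normalizer ((S : Subgroup G) : Set G))
    (i : ZMod (2 ^ (k + 1))) : ∃ i', ∀ p p' : Dk k × Dk 0, c.Fixed i p → (p'.1 = 1 ∨ p'.1 = zk k) →
      n * c.f p * n⁻¹ = c.f p' → c.Fixed i' p' := by
  have hle : cv n⁻¹ (c.quad i 0) ≤ (S : Subgroup G) := by
    refine (cv_mono _ (c.quad_le i 0)).trans (le_of_eq (cv_of_mem (inv_mem hn)))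
  obtain ⟨i', j', he⟩ := c.eq_quad hle (fun y hy => by
    have h1 := c.quad_sq (mem_cv.1 hy)
    rw [_root_.conj_mul] at h1
    exact conj_eq_one_iff.1 h1) (by rw [card_cv, c.card_quad])
  have he' : cv n⁻¹ (c.quad i 0) = c.quad i' 0 := by
    rw [he]
    refine le_antisymm ?_ ?_ <;> intro y hy <;> obtain ⟨q, h1, -, rfl⟩ := exists_quad hy <;>
      exact mem_quad.2 ⟨h1, v_four _ _⟩
  refine ⟨i', fun p p' hp hp' hpe => c.fixed_transport (fun y => ?_)
    (c.normalizer_fix_z0 hk hn) hp hp' hpe⟩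
  rw [← he', mem_cv, inv_inv]
  simp [mul_assoc]

lemma fixed_class (hk : 1 ≤ k) (i : ZMod (2 ^ (k + 1))) :
    (∀ p, c.Fixed 0 p → c.Fixed i p) ∨ (∀ p, c.Fixed 1 p → c.Fixed i p) := by
  obtain ⟨d, hd⟩ := exists_shift i 0
  rw [zero_add] at hd
  have key : ∀ i₀, d * sr i₀ * d⁻¹ = sr i → ∀ p, c.Fixed i₀ p → c.Fixed i p := by
    intro i₀ hd0 p hp
    refine c.fixed_transport (n := c.f (d, 1)) (fun y => ?_) (c.x_fix_central (Or.inr rfl)) hp hp.1
      (c.x_fix_central hp.1)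
    have hfour : ∀ a, a ∈ Four i₀ ↔ d * a * d⁻¹ ∈ Four i := by
      intro a
      rw [Four, Four, mem_centralizer_singleton_iff, mem_centralizer_singleton_iff, ← hd0,
        _root_.conj_mul, _root_.conj_mul]
      exact ⟨fun h => by rw [h], fun h => mul_left_cancel (mul_right_cancel h)⟩
    constructor
    · intro hy
      obtain ⟨q, h1, -, rfl⟩ := exists_quad hy
      rw [← map_inv, ← map_mul, ← map_mul]
      exact mem_quad.2 ⟨(hfour _).1 h1, v_four _ _⟩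
    · intro hy
      obtain ⟨q, h1, -, he⟩ := exists_quad hy
      have hy' : y = c.f (d⁻¹ * q.1 * d, q.2) := by
        rw [show y = (c.f (d, 1))⁻¹ * c.f q * c.f (d, 1) by rw [he]; group,
          ← map_inv, ← map_mul, ← map_mul]
        exact congrArg c.f (Prod.ext rfl (by simp))
      rw [hy']
      refine mem_quad.2 ⟨(hfour _).2 ?_, v_four _ _⟩
      rwa [show d * (d⁻¹ * q.1 * d) * d⁻¹ = q.1 by group]
  rcases hd with hd | hd
  · exact Or.inl (key 0 hd)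
  · exact Or.inr (key 1 hd)

/-- Some element normalising `S` moves a central element. -/
theorem exists_moving (hk : 1 ≤ k) (hcl : c.Clean) (h2 : ∀ N : Subgroup G, N.Normal → N.index ≠ 2) :
    ∃ g ∈ normalizer ((S : Subgroup G) : Set G), Odd (orderOf g) ∧
      ∃ p : Dk k × Dk 0, (p.1 = 1 ∨ p.1 = zk k) ∧ g * c.f p * g⁻¹ ≠ c.f p := by
  haveI : Fact (Nat.Prime 2) := ⟨Nat.prime_two⟩
  by_contra hno
  push Not at hno
  have hfix : ∀ p q : Dk k × Dk 0, (p.1 = 1 ∨ p.1 = zk k) → (q.1 = 1 ∨ q.1 = zk k) →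
      IsConj (c.f p) (c.f q) → p = q := by
    intro p q hp hq h
    obtain ⟨n, hn, hne⟩ := c.center_conj (central0 hp) (central0 hq) h
    have hmem := normalizer_le_of_odd (M := centralizer {c.f p}) (isCR_self S).fn
      (fun s hs => by
        obtain ⟨r, rfl⟩ := c.exists_of_mem (mem_inf.1 hs).1
        rw [mem_centralizer_singleton_iff, ← map_mul, ← map_mul, central0 hp r])
      (fun g hg ho => by
        rw [mem_centralizer_singleton_iff]
        exact mul_inv_eq_iff_eq_mul.1 (hno g hg ho p hp)) hn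
    rw [mul_inv_eq_iff_eq_mul.2 (mem_centralizer_singleton_iff.1 hmem)] at hne
    exact c.inj hne
  set H0 : Subgroup (Dk 0) := zpowers (zk 0) with hH0
  have hH : ∀ a, a ∈ H0 ↔ a = 1 ∨ a = zk 0 := fun a =>
    ⟨mem_zpowers_z, fun h => by rcases h with rfl | rfl
                                · exact one_mem _
                                · exact mem_zpowers _⟩
  set M := (H0.comap (MonoidHom.snd (Dk k) (Dk 0))).map c.f with hM
  have hmem : ∀ p, c.f p ∈ M ↔ (p.2 = 1 ∨ p.2 = zk 0) := fun p =>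
    (mem_map_iff_mem c.inj).trans (hH p.2)
  have hdec : ∀ a b : Dk 0, ((a * b = 1 ∨ a * b = zk 0) ↔
      ((a = 1 ∨ a = zk 0) ↔ (b = 1 ∨ b = zk 0))) := by decide
  have hpar : ∀ a ∈ S, ∀ b ∈ S, (a * b ∈ M ↔ (a ∈ M ↔ b ∈ M)) := by
    intro x hx y hy
    obtain ⟨p, rfl⟩ := c.exists_of_mem hx
    obtain ⟨q, rfl⟩ := c.exists_of_mem hy
    rw [← map_mul, hmem, hmem, hmem]
    exact hdec p.2 q.2
  have hinv : ∀ x ∈ S, ∀ g : G, g * x * g⁻¹ ∈ S → (x ∈ M ↔ g * x * g⁻¹ ∈ M) := by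
    refine preserved S (M : Set G) ?_ ?_
    · intro s hs x hx
      obtain ⟨p, rfl⟩ := c.exists_of_mem hs
      obtain ⟨q, rfl⟩ := c.exists_of_mem hx
      show c.f q ∈ M ↔ c.f p * c.f q * (c.f p)⁻¹ ∈ M
      rw [← map_mul, ← map_inv, ← map_mul, hmem, hmem, Prod.snd_mul, Prod.snd_mul, Prod.snd_inv,
        v_comm p.2, mul_inv_cancel_right]
    intro E hE g hg ho x hx hxM
    rcases c.shape hE with hp | htriv
    swap
    · rw [htriv g hg ho x hx]; exact hxM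
    obtain ⟨q, hq, rfl⟩ := c.exists_pre hE.fn.le hx
    have hb2 : ¬ c.swap.Big E := fun ⟨r₀, _, _, hne⟩ => hne (v_sq r₀.1)
    by_cases hb : c.Big E
    · obtain ⟨s, hs, hsr⟩ := c.exists_refl hE
      obtain ⟨r', hr, hrr, hrne⟩ := id hb
      rw [c.fix_big_four hE hp hb hb2 hg ho (fun a ha => ?_) _ hx]
      · exact hxM
      obtain ⟨p', hp', he⟩ := c.pull hE.fn.le hg (hp.right ha)
      have hc : ∀ b ∈ c.pre E, p' * b = b * p' := by
        intro b hb'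
        obtain ⟨b', -, hbe⟩ := c.pull hE.fn.le (inv_mem hg) hb'
        exact c.commute_of_pull he (show g * c.f b' * g⁻¹ = c.f b by rw [← hbe]; group)
          (central0 (Or.inl rfl) b')
      rw [he, hfix ((1 : Dk k), a.2) p' (Or.inl rfl)
        (hsr.commute_big hrr hrne (congrArg Prod.fst (hc s hs)) (congrArg Prod.fst (hc r' hr)))
        (isConj_iff.2 ⟨g, he⟩)]
    obtain ⟨i, hi, hi'⟩ := c.four_of_small hE fun p hp' hr => by
      by_contra h; exact hb ⟨p, hp', hr, h⟩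
    obtain ⟨j, -, hj'⟩ := c.four_right hE hb2
    have hEq : E = c.quad i 0 :=
      c.eq_quad_of_pre hE.fn.le (fun p hp' => ⟨hi p hp', v_four 0 _⟩) hi' fun b _ => hj' b (v_four j b)
    subst hEq
    obtain ⟨w, hw, hww⟩ := z_eq_sq hk
    have hS := c.quad_setting0 hk hw hww i
    have hx1 := c.tv_left hw hww i 0
    obtain ⟨t, ht, htz, hu, -, -, hthree⟩ := c.three_tv hk hcl hw hww i
    -- transvections keep the second coordinate
    have hsnd : ∀ σ d, TV (c.quad i 0) σ d → IsConj (c.f (zk k, 1)) d → ∀ a a' : Dk k × Dk 0,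
        c.f a ∈ c.quad i 0 → σ * c.f a * σ⁻¹ = c.f a' → a'.2 = a.2 := by
      intro σ d hσ hd a a' ha hae
      have hd' : ∃ b, d = c.f (b, 1) := by
        rcases hthree σ d hσ hd with rfl | rfl | rfl
        · exact ⟨_, rfl⟩
        · exact ⟨_, rfl⟩
        · exact ⟨sr i * zk k, by rw [← map_mul, Prod.mk_mul_mk, one_mul]⟩
      obtain ⟨b, rfl⟩ := hd'
      rcases hσ.dich _ ha with h | h <;> rw [hae] at h
      · rw [c.inj h]
      · rw [← map_mul] at h; rw [c.inj h]; simp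
    -- an element of the group of transvections taking the image of the central involution back
    have hgz := hx1.conj hg
    have hgzc : IsConj (c.f (zk k, 1)) (g * c.f (zk k, 1) * g⁻¹) := isConj_iff.2 ⟨g, rfl⟩
    have hn : ∃ n ∈ normalizer (c.quad i 0 : Set G),
        n * (g * c.f (zk k, 1) * g⁻¹) * n⁻¹ = c.f (zk k, 1) ∧
        ∀ a a' : Dk k × Dk 0, c.f a ∈ c.quad i 0 → n * c.f a * n⁻¹ = c.f a' → a'.2 = a.2 := by
      rcases hthree _ _ hgz hgzc with e | e | e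
      · exact ⟨1, one_mem _, by rw [e]; group, fun a a' _ h => by
          rw [one_mul, inv_one, mul_one] at h; rw [c.inj h]⟩
      · have hne : c.f (sr i, 1) ≠ c.f (zk k, 1) := fun h =>
          (refl_sr i).ne_z (congrArg Prod.fst (c.inj h))
        obtain ⟨m1, m2⟩ := hS.move ht hx1 (hcl i) (IsConj.refl _) hne
        obtain ⟨hv, hvz, -⟩ := hS.third ht hx1 m1 m2
        exact ⟨_, hv.norm, by rw [e]; exact hvz,
          hsnd _ _ hv ((hcl i).trans (isConj_iff.2 ⟨_, m2⟩) |> fun h =>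
            by rw [hS.comm _ (c.mem_quad0 (z_mem_four i)) _ ht.mem]; exact h)⟩
      · refine ⟨t, ht.norm, ?_, hsnd _ _ ht (hcl i)⟩
        rw [e, ← _root_.conj_mul, ht.fix_centre hS, htz, ← mul_assoc,
          hS.comm _ ht.mem _ (c.mem_quad0 (z_mem_four i)), mul_assoc, hS.sq _ ht.mem, mul_one]
    obtain ⟨n, hnN, hnz, hnsnd⟩ := hn
    have hgN : n * g ∈ normalizer (c.quad i 0 : Set G) := mul_mem hnN hg
    have hconjx := hx1.conj hgN
    rw [show n * g * c.f (zk k, 1) * (n * g)⁻¹ = n * (g * c.f (zk k, 1) * g⁻¹) * n⁻¹ by group, hnz]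
      at hconjx
    have hact := hS.same_centre hconjx hx1 (IsConj.refl _)
    -- second coordinates are preserved
    have hv : ∀ v : Dk 0, ∀ a' : Dk k × Dk 0, g * c.f (1, v) * g⁻¹ = c.f a' → a'.2 = v := by
      intro v a' hae
      have hmemv : c.f ((1 : Dk k), v) ∈ c.quad i 0 := c.mem_quad0 (one_mem _)
      have ha'm : c.f a' ∈ c.quad i 0 := hae ▸ (mem_normalizer_iff.1 hg _).1 hmemv
      obtain ⟨b, hb1, -, hbe⟩ := exists_quad ((mem_normalizer_iff.1 hnN _).1 ha'm)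
      have hfixed : c.f (w, 1) * c.f b * (c.f (w, 1))⁻¹ = c.f b := by
        rw [← hact _ (c.mem_quad0 hb1), hbe, ← hae]
        calc n * g * c.f (w, 1) * (n * g)⁻¹ * (n * (g * c.f (1, v) * g⁻¹) * n⁻¹) *
              (n * g * c.f (w, 1) * (n * g)⁻¹)⁻¹ =
            n * g * (c.f (w, 1) * c.f (1, v) * (c.f (w, 1))⁻¹) * (n * g)⁻¹ := by group
          _ = _ := by rw [c.x_fix_central (Or.inl rfl)]; group
      rw [← map_inv, ← map_mul, ← map_mul] at hfixed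
      have h3 : w * b.1 * w⁻¹ = b.1 := congrArg Prod.fst (c.inj hfixed)
      have hbc : b.1 = 1 ∨ b.1 = zk k := by
        rcases four_cases hb1 with e | e
        · exact e
        · exfalso
          rcases e with e | e <;> rw [e] at h3
          · rw [hw.flip hww] at h3
            exact z_ne_one (mul_eq_left.1 h3)
          · rw [← _root_.conj_mul, hw.flip hww, conj_z] at h3
            exact z_ne_one (mul_eq_left.1 h3)
      have hb := hfix ((1 : Dk k), v) b (Or.inl rfl) hbc (isConj_iff.2 ⟨n * g, by rw [hbe, ← hae]; group⟩)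
      rw [← hb] at hbe
      exact (hnsnd a' (1, v) ha'm hbe.symm).symm
    have hleft : ∀ a ∈ Four i, ∀ a' : Dk k × Dk 0, g * c.f (a, 1) * g⁻¹ = c.f a' → a'.2 = 1 := by
      intro a ha a' hae
      have hcase : ∀ σ d, TV (c.quad i 0) σ d → IsConj (c.f (zk k, 1)) d → d = c.f (a, 1) →
          a'.2 = 1 := by
        intro σ d hσ hd hde
        subst hde
        rcases hthree _ _ (hσ.conj hg) (hd.trans (isConj_iff.2 ⟨g, rfl⟩)) with e | e | e <;>
          rw [hae] at e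
        · rw [c.inj e]
        · rw [c.inj e]
        · rw [← map_mul] at e; rw [c.inj e]; simp
      rcases mem_four.1 ha with rfl | rfl | rfl | rfl
      · rw [← Prod.one_eq_mk, map_one] at hae
        have : a' = 1 := c.inj (by rw [← hae, map_one]; group)
        rw [this]; rfl
      · exact hcase _ _ hx1 (IsConj.refl _) rfl
      · exact hcase _ _ ht (hcl i) rfl
      · exact hcase _ _ hu ((hcl i).trans (isConj_iff.2 ⟨c.f (w, 1), by
          rw [← map_inv, ← map_mul, ← map_mul, ← map_mul]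
          exact congrArg c.f (Prod.ext (hw.flip hww i) (by simp))⟩))
          (by rw [← map_mul, Prod.mk_mul_mk, one_mul])
    obtain ⟨hq1, -⟩ := mem_quad.1 hx
    obtain ⟨a', ha'⟩ : ∃ a', g * c.f (q.1, 1) * g⁻¹ = c.f a' := by
      obtain ⟨a', -, h⟩ := c.pull hE.fn.le hg (hi' _ hq1); exact ⟨a', h⟩
    obtain ⟨b', hb'⟩ : ∃ b', g * c.f ((1 : Dk k), q.2) * g⁻¹ = c.f b' := by
      obtain ⟨b', -, h⟩ := c.pull hE.fn.le hg (hp.right hq); exact ⟨b', h⟩
    rw [show q = ((q.1, 1) : Dk k × Dk 0) * (1, q.2) by simp, c.conj_map_mul, ha', hb', ← map_mul]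
    show c.f (a' * b') ∈ M
    rw [hmem, Prod.snd_mul, hleft _ hq1 _ ha', hv _ _ hb', one_mul]
    exact (hmem q).1 hxM
  obtain ⟨N, hN, hN2⟩ := index_two_of_parity S M hpar hinv (c.mem (1, sr 0)) (by
    rw [hmem]
    rintro (h | h)
    · exact (refl_sr _).ne_one h
    · exact (refl_sr _).ne_z h)
  exact h2 N hN hN2

/-- The fixed complements agree. -/
theorem exists_common (hk : 1 ≤ k) (hcl : c.Clean) (h2 : ∀ N : Subgroup G, N.Normal → N.index ≠ 2) :
    ∃ χ : Dk 0 →* Dk k, (∀ v, χ v = 1 ∨ χ v = zk k) ∧ (∀ i v, c.Fixed i (χ v, v)) ∧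
      ∀ i p, c.Fixed i p → p.1 = χ p.2 := by
  obtain ⟨χ₀, hχ₀, hF₀, hU₀⟩ := c.exists_fixed hk hcl 0
  obtain ⟨χ₁, hχ₁, hF₁, hU₁⟩ := c.exists_fixed hk hcl 1
  by_cases heq : ∀ v, χ₀ v = χ₁ v
  · refine ⟨χ₀, hχ₀, ?_, ?_⟩
    · intro i v
      rcases c.fixed_class hk i with h | h
      · exact h _ (hF₀ v)
      · rw [heq]; exact h _ (hF₁ v)
    · intro i p hp
      obtain ⟨χ, -, -, hU⟩ := c.exists_fixed hk hcl i
      rcases c.fixed_class hk i with h | h
      · rw [hU p hp, ← hU _ (h _ (hF₀ p.2))]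
      · rw [hU p hp, ← hU _ (h _ (hF₁ p.2)), heq]
  exfalso
  push Not at heq
  obtain ⟨v₁, hv₁⟩ := heq
  have hv11 : v₁ ≠ 1 := fun h => hv₁ (by rw [h, map_one, map_one])
  -- an agreeing nontrivial element
  obtain ⟨v₀, hv01, hv₀⟩ : ∃ v₀ : Dk 0, v₀ ≠ 1 ∧ χ₀ v₀ = χ₁ v₀ := by
    have h3 : ∀ v : Dk 0, ∃ u : Dk 0, v ≠ 1 → u ≠ 1 ∧ u ≠ v := by decide
    obtain ⟨u, hu⟩ := h3 v₁
    obtain ⟨hu1, hu2⟩ := hu hv11
    by_cases hh : χ₀ u = χ₁ u
    · exact ⟨u, hu1, hh⟩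
    · refine ⟨u * v₁, ?_, ?_⟩
      · intro h; exact hu2 (by rw [← mul_left_inj v₁, h, v_sq])
      · rw [map_mul, map_mul]
        rcases hχ₀ u with a | a <;> rcases hχ₁ u with b | b <;> rcases hχ₀ v₁ with d | d <;>
          rcases hχ₁ v₁ with e | e <;> rw [a, b] at hh <;> rw [d, e] at hv₁ <;>
          simp [a, b, d, e, z_sq] at hh hv₁ ⊢
  have hne01 : v₀ ≠ v₁ := fun h => hv₁ (h ▸ hv₀)
  have hagree : ∀ v, χ₀ v = χ₁ v → v = 1 ∨ v = v₀ := by
    intro v hv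
    rcases v_three v₀ v₁ hv01 hv11 hne01 v with rfl | rfl | rfl | rfl
    · exact Or.inl rfl
    · exact Or.inr rfl
    · exact absurd hv hv₁
    · rw [map_mul, map_mul, hv₀] at hv
      exact absurd (mul_left_cancel hv) hv₁
  set y₀ : Dk k × Dk 0 := (χ₀ v₀, v₀) with hy₀
  obtain ⟨g, hg, ho, p, hp, hmove⟩ := c.exists_moving hk hcl h2
  have hchoice : ∀ n ∈ normalizer ((S : Subgroup G) : Set G),
      ∃ f₀ f₁ : Dk 0 →* Dk k, ((f₀ = χ₀ ∧ f₁ = χ₁) ∨ (f₀ = χ₁ ∧ f₁ = χ₀)) ∧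
      (∀ q q' : Dk k × Dk 0, q.1 = χ₀ q.2 → (q'.1 = 1 ∨ q'.1 = zk k) →
        n * c.f q * n⁻¹ = c.f q' → q'.1 = f₀ q'.2) ∧
      (∀ q q' : Dk k × Dk 0, q.1 = χ₁ q.2 → (q'.1 = 1 ∨ q'.1 = zk k) →
        n * c.f q * n⁻¹ = c.f q' → q'.1 = f₁ q'.2) := by
    intro n hn
    have hcls : ∀ (i₀ : ZMod (2 ^ (k + 1))) (χ' : Dk 0 →* Dk k), (∀ v, c.Fixed i₀ (χ' v, v)) → ∃ f : Dk 0 →* Dk k, (f = χ₀ ∨ f = χ₁) ∧
        ∀ q q' : Dk k × Dk 0, q.1 = χ' q.2 → (q'.1 = 1 ∨ q'.1 = zk k) →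
          n * c.f q * n⁻¹ = c.f q' → q'.1 = f q'.2 := by
      intro i₀ χ' hF
      obtain ⟨i', hi'⟩ := c.fixed_normalizer hk hn i₀
      obtain ⟨χ, -, hFi, hUi⟩ := c.exists_fixed hk hcl i'
      have hin : ∀ q q' : Dk k × Dk 0, q.1 = χ' q.2 → (q'.1 = 1 ∨ q'.1 = zk k) →
          n * c.f q * n⁻¹ = c.f q' → q'.1 = χ q'.2 := fun q q' hq hq' he =>
        hUi _ (hi' _ _ (by rw [show q = (χ' q.2, q.2) from Prod.ext hq rfl]; exact hF _) hq' he)
      rcases c.fixed_class hk i' with h | h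
      · exact ⟨χ₀, Or.inl rfl, fun q q' a b d => (hin q q' a b d).trans
          (hUi _ (h _ (hF₀ q'.2))).symm⟩
      · exact ⟨χ₁, Or.inr rfl, fun q q' a b d => (hin q q' a b d).trans
          (hUi _ (h _ (hF₁ q'.2))).symm⟩
    obtain ⟨f₀, hf₀, h₀⟩ := hcls 0 χ₀ hF₀
    obtain ⟨f₁, hf₁, h₁⟩ := hcls 1 χ₁ hF₁
    refine ⟨f₀, f₁, ?_, h₀, h₁⟩
    have hdiff : f₀ ≠ f₁ := by
      rintro rfl
      obtain ⟨a, ha, hae⟩ := c.pull_central hn hk (p := (χ₀ v₁, v₁)) (hχ₀ v₁)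
      obtain ⟨b, hb, hbe⟩ := c.pull_central hn hk (p := (χ₁ v₁, v₁)) (hχ₁ v₁)
      have hz : ((χ₀ v₁, v₁) : Dk k × Dk 0) = (zk k, 1) * (χ₁ v₁, v₁) := by
        refine Prod.ext ?_ (by simp)
        show χ₀ v₁ = zk k * χ₁ v₁
        rcases hχ₀ v₁ with d | d <;> rcases hχ₁ v₁ with e | e <;> rw [d, e] at hv₁ ⊢
        · exact absurd rfl hv₁
        · rw [z_sq]
        · rw [mul_one]
        · exact absurd rfl hv₁
      have hab : a = (zk k, 1) * b := c.inj (by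
        rw [← hae, hz, c.conj_map_mul, hbe, c.normalizer_fix_z0 hk hn, map_mul])
      have e1 := h₀ _ _ rfl ha hae
      have e2 := h₁ _ _ rfl hb hbe
      rw [hab, Prod.fst_mul, Prod.snd_mul, one_mul, e2] at e1
      exact z_ne_one (mul_eq_right.1 e1)
    rcases hf₀ with rfl | rfl <;> rcases hf₁ with rfl | rfl
    · exact absurd rfl hdiff
    · exact Or.inl ⟨rfl, rfl⟩
    · exact Or.inr ⟨rfl, rfl⟩
    · exact absurd rfl hdiff
  -- the agreeing element is fixed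
  have hy : g * c.f y₀ * g⁻¹ = c.f y₀ := by
    obtain ⟨f₀, f₁, hf, h₀, h₁⟩ := hchoice g hg
    obtain ⟨a, ha, hae⟩ := c.pull_central hg hk (p := y₀) (hχ₀ v₀)
    have e0 := h₀ _ _ rfl ha hae
    have e1 := h₁ _ _ hv₀ ha hae
    have hne := c.ne_one_of_pull hae (fun h => hv01 (congrArg Prod.snd h))
    have hagr : χ₀ a.2 = χ₁ a.2 ∧ a.1 = χ₀ a.2 := by
      rcases hf with ⟨rfl, rfl⟩ | ⟨rfl, rfl⟩
      · exact ⟨e0.symm.trans e1, e0⟩
      · exact ⟨e1.symm.trans e0, e1⟩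
    rw [hae]
    refine congrArg c.f ?_
    rcases hagree _ hagr.1 with e | e
    · exact absurd (Prod.ext (by rw [hagr.2, e, map_one]; rfl) e) hne
    · exact Prod.ext (by rw [hagr.2, e]) e
  -- the square preserves the first complement
  set h := g * g with hh
  have hho : Odd (orderOf h) := ho.of_dvd_nat (orderOf_dvd_of_pow_eq_one (by
    rw [hh, ← sq, ← pow_mul, mul_comm, pow_mul, pow_orderOf_eq_one, one_pow]))
  have hconj : ∀ x, h * x * h⁻¹ = g * (g * x * g⁻¹) * g⁻¹ := fun x => by rw [hh]; group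
  have hyh : h * c.f y₀ * h⁻¹ = c.f y₀ := by rw [hconj, hy, hy]
  have hpres : ∀ v : Dk 0, ∃ v' : Dk 0,
      h * c.f (χ₀ v, v) * h⁻¹ = c.f (χ₀ v', v') := by
    intro v
    obtain ⟨f₀, f₁, hf, h₀, h₁⟩ := hchoice g hg
    obtain ⟨a, ha, hae⟩ := c.pull_central hg hk (p := (χ₀ v, v)) (hχ₀ v)
    obtain ⟨b, hb, hbe⟩ := c.pull_central hg hk (p := a) ha
    refine ⟨b.2, ?_⟩
    rw [hconj, hae, hbe]
    refine congrArg c.f (Prod.ext ?_ rfl)
    have e0 := h₀ _ _ rfl ha hae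
    rcases hf with ⟨rfl, rfl⟩ | ⟨rfl, rfl⟩
    · exact h₀ _ _ e0 hb hbe
    · exact h₁ _ _ e0 hb hbe
  have hset : ∀ v : Dk 0, v ≠ 1 → h * c.f (χ₀ v, v) * h⁻¹ = c.f y₀ ∨
      h * c.f (χ₀ v, v) * h⁻¹ = c.f (χ₀ v₁, v₁) ∨
      h * c.f (χ₀ v, v) * h⁻¹ = c.f (χ₀ (v₀ * v₁), v₀ * v₁) := by
    intro v hv
    obtain ⟨v', hv'⟩ := hpres v
    have hne := c.ne_one_of_pull hv' (fun e => hv (congrArg Prod.snd e))
    rw [hv']
    rcases v_three v₀ v₁ hv01 hv11 hne01 v' with rfl | rfl | rfl | rfl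
    · exact absurd (show ((χ₀ 1, 1) : Dk k × Dk 0) = 1 from Prod.ext (map_one χ₀) rfl) hne
    · exact Or.inl rfl
    · exact Or.inr (Or.inl rfl)
    · exact Or.inr (Or.inr rfl)
  have hv01' : v₀ * v₁ ≠ 1 := fun e => hne01 (by rw [← mul_left_inj v₁, e, v_sq])
  have n1 : c.f y₀ ≠ c.f (χ₀ v₁, v₁) := fun e => hne01 (congrArg Prod.snd (c.inj e))
  have n2 : c.f y₀ ≠ c.f (χ₀ (v₀ * v₁), v₀ * v₁) := fun e =>
    hv11 (mul_eq_left.1 (congrArg Prod.snd (c.inj e)).symm)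
  have hfix1 := fix_of_three hho hyh n1 n2 (hset _ hv11) (hset _ hv01')
  have hfixg : g * c.f (χ₀ v₁, v₁) * g⁻¹ = c.f (χ₀ v₁, v₁) :=
    fix_of_sq ho (by rw [← hconj, hfix1])
  have hz := c.normalizer_fix_z0 hk hg
  refine hmove ?_
  have hdecomp : ∃ e : Dk k, (e = 1 ∨ e = zk k) ∧ p = (e, 1) * (χ₀ p.2, p.2) := by
    refine ⟨p.1 * χ₀ p.2, ?_, Prod.ext ?_ (by simp)⟩
    · rcases hp with a | a <;> rcases hχ₀ p.2 with b | b <;> simp [a, b, z_sq]
    · show p.1 = p.1 * χ₀ p.2 * χ₀ p.2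
      rcases hp with a | a <;> rcases hχ₀ p.2 with b | b <;> simp [a, b, z_sq]
  obtain ⟨e, he, hpe⟩ := hdecomp
  have he' : g * c.f (e, 1) * g⁻¹ = c.f (e, 1) := by
    rcases he with rfl | rfl
    · simp [← Prod.one_eq_mk]
    · exact hz
  have hv' : g * c.f (χ₀ p.2, p.2) * g⁻¹ = c.f (χ₀ p.2, p.2) := by
    rcases v_three v₀ v₁ hv01 hv11 hne01 p.2 with a | a | a | a <;> rw [a]
    · simp [← Prod.one_eq_mk]
    · exact hy
    · exact hfixg
    · rw [map_mul χ₀, ← Prod.mk_mul_mk, c.conj_map_mul, hy, hfixg, map_mul c.f]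
  rw [hpe, c.conj_map_mul, he', hv', map_mul]

include c in
/-- A nonabelian dihedral factor times a four-group: product fusion after a change of coordinates. -/
theorem stronglyClosed_four (hk : 1 ≤ k) (h2 : ∀ N : Subgroup G, N.Normal → N.index ≠ 2) :
    ∃ c' : Coord S k 0,
      Cfsg.IsStronglyClosed (c'.f.comp (MonoidHom.inl (Dk k) (Dk 0))).range (S : Subgroup G) ∧
      Cfsg.IsStronglyClosed (c'.swap.f.comp (MonoidHom.inl (Dk 0) (Dk k))).range (S : Subgroup G) := by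
  obtain ⟨c, hcl⟩ := c.exists_clean0 hk h2
  obtain ⟨χ, hχ, hF, hU⟩ := c.exists_common hk hcl h2
  obtain ⟨w, hw, hww⟩ := z_eq_sq hk
  set c' := c.twist 1 χ (fun a y => by simp)
    (fun b y => by rcases hχ b with e | e <;> rw [e] <;> simp [z_comm]) (fun a => map_one χ) with hc'
  have happ : ∀ a b, c'.f (a, b) = c.f (a * χ b, b) := fun a b => by
    rw [hc', twist_apply]; simp
  have hleft : ∀ a, c'.f (a, 1) = c.f (a, 1) := fun a => by rw [happ, map_one, mul_one]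
  have hnc := c.hnc_of_four hk
  have hcen : ∀ e v, (e = 1 ∨ e = zk k) → (e * χ v = 1 ∨ e * χ v = zk k) := by
    intro e v he
    rcases he with a | a <;> rcases hχ v with b | b <;> simp [a, b, z_sq]
  have hnorm : ∀ v v', v ≠ 1 → ¬ IsConj (c'.f (1, v)) (c'.f (zk k, v')) := by
    intro v v' hv hconj
    rw [happ, happ, one_mul] at hconj
    obtain ⟨n, hn, hne⟩ := c.center_conj (central0 (hχ v)) (central0 (hcen _ v' (Or.inr rfl))) hconj
    obtain ⟨i', hi'⟩ := c.fixed_normalizer hk hn 0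
    have h1 := hU i' _ (hi' _ _ (hF 0 v) (hcen _ v' (Or.inr rfl)) hne)
    exact z_ne_one (mul_eq_right.1 h1)
  have hcls : ∀ a : Dk k, a * a = 1 → a ≠ 1 → ∀ v : Dk 0, IsConj (c'.f (zk k, v)) (c'.f (a, v)) := by
    intro a ha ha1 v
    rcases inv_cases ha ha1 with rfl | ⟨i, rfl⟩
    · exact IsConj.refl _
    obtain ⟨t, ht, -, -, huz, hufix, -⟩ := c.three_tv hk hcl hw hww i
    have hf := hF i v
    rw [happ, happ]
    refine isConj_iff.2 ⟨c.f (w, 1) * t * (c.f (w, 1))⁻¹, ?_⟩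
    rw [show ((zk k * χ v, v) : Dk k × Dk 0) = (zk k, 1) * (χ v, v) by simp, c.conj_map_mul, huz,
      hufix _ (c.mem_quad0 (by rcases hχ v with e | e <;> simp only [e]
                               · exact one_mem _
                               · exact z_mem_four i))
        (c.x_fix_central hf.1) (hf.2 t _ ht (hcl i)), ← map_mul]
    simp
  have hclean : ∀ a : Dk k, a * a = 1 → a ≠ 1 → IsConj (c.f (zk k, 1)) (c'.f (a, 1)) := by
    intro a ha ha1
    rw [hleft]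
    rcases inv_cases ha ha1 with rfl | ⟨i, rfl⟩
    · exact IsConj.refl _
    · exact hcl i
  have hz1 : ∀ e v, (e = 1 ∨ e = zk k) → v ≠ 1 → ¬ IsConj (c.f (zk k, 1)) (c'.f (e, v)) := by
    intro e v he hv hconj
    rw [happ] at hconj
    exact hv (congrArg Prod.snd (hnc _ (central0 (hcen e v he)) hconj))
  have hinvol : ∀ (p q : Dk k × Dk 0) (g : G), g * c'.f p * g⁻¹ = c'.f q → p * p = 1 → q * q = 1 := by
    intro p q g he hp
    refine c'.inj ?_
    rw [← c'.sq_of_pull he, hp, map_one]; group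
  refine ⟨c', c'.left_stronglyClosed fun a ha ha1 g q he => ?_,
    c'.swap.left_stronglyClosed fun v hv hv1 g q he => ?_⟩
  · by_contra hq
    have hq2 := hinvol _ _ g he (Prod.ext ha (one_mul 1))
    have hconj := (hclean a ha ha1).trans (isConj_iff.2 ⟨g, he⟩)
    by_cases hq1 : q.1 = 1
    · rw [show q = (1, q.2) from Prod.ext hq1 rfl] at hconj
      exact hz1 1 q.2 (Or.inl rfl) hq hconj
    · exact hz1 (zk k) q.2 (Or.inr rfl) hq
        (hconj.trans (hcls q.1 (congrArg Prod.fst hq2) hq1 q.2).symm)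
  · by_contra hq
    rw [swap_apply, swap_apply] at he
    have hq2 := hinvol _ _ g he (Prod.ext (one_mul 1) hv)
    have hq2' := congrArg Prod.fst hq2
    by_cases hq1 : q.1 = 1
    · rw [show ((q.2, q.1) : Dk k × Dk 0) = (q.2, 1) from Prod.ext rfl hq1] at he
      exact hz1 1 v (Or.inl rfl) hv1
        ((hclean q.2 hq2' hq).trans (isConj_iff.2 ⟨g, he⟩).symm)
    · exact hnorm v q.1 hv1 ((isConj_iff.2 ⟨g, he⟩).trans (hcls q.2 hq2' hq q.1).symm)

end Coord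

end Cfsg.Agent.ProductFusion.DD
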