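import Cfsg.Agent.GStructB.ProductFusion.DD.Tools

/-!
Transvections induced on an elementary abelian 2-subgroup with small Sylow automiser.
-/

set_option autoImplicit false
set_option linter.style.haveILetI false
set_option linter.unusedSectionVars false

open Subgroup

namespace Cfsg.Agent.ProductFusion.DD

open Cfsg.Agent.Techniques.Alperin.Basic

universe u

variable {G : Type u} [Group G]

/-- Two elements act alike on `E`. -/
def SameAct (E : Subgroup G) (n m : G) : Prop := ∀ e ∈ E, n * e * n⁻¹ = m * e * m⁻¹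

/-- `n` induces on `E` a transvection with centre `c`. -/
structure TV (E : Subgroup G) (n c : G) : Prop where
  norm : n ∈ normalizer (E : Set G)
  mem : c ∈ E
  ne : c ≠ 1
  dich : ∀ e ∈ E, n * e * n⁻¹ = e ∨ n * e * n⁻¹ = e * c
  moved : ∃ e ∈ E, n * e * n⁻¹ = e * c

/-- An elementary abelian subgroup with a single transvection class meeting the Sylow automiser. -/
structure Setting (S : Sylow 2 G) (E : Subgroup G) (z x : G) : Prop where
  comm : ∀ a ∈ E, ∀ b ∈ E, a * b = b * a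
  sq : ∀ a ∈ E, a * a = 1
  fn : FullyNormalized 2 (S : Subgroup G) E
  exp : ∀ s ∈ (S : Subgroup G) ⊓ normalizer (E : Set G), ∀ e ∈ E, s * (s * e * s⁻¹) * s⁻¹ = e
  uniq : ∀ s ∈ (S : Subgroup G) ⊓ normalizer (E : Set G), ∀ c, TV E s c → IsConj z c → SameAct E s x

variable {E : Subgroup G} {n m c d : G}

lemma TV.conj (h : TV E n c) {g : G} (hg : g ∈ normalizer (E : Set G)) :
    TV E (g * n * g⁻¹) (g * c * g⁻¹) := by
  have hmem : ∀ e ∈ E, g⁻¹ * e * g ∈ E := fun e he => by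
    simpa using (mem_normalizer_iff.1 (inv_mem hg) e).1 he
  refine ⟨mul_mem (mul_mem hg h.norm) (inv_mem hg), (mem_normalizer_iff.1 hg c).1 h.mem,
    fun e => h.ne (conj_eq_one_iff.1 e), fun e he => ?_, ?_⟩
  · have e' : g * n * g⁻¹ * e * (g * n * g⁻¹)⁻¹ = g * (n * (g⁻¹ * e * g) * n⁻¹) * g⁻¹ := by group
    rw [e']
    rcases h.dich _ (hmem e he) with hh | hh <;> rw [hh]
    · left; group
    · right; group
  · obtain ⟨e, he, hh⟩ := h.moved
    refine ⟨g * e * g⁻¹, (mem_normalizer_iff.1 hg e).1 he, ?_⟩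
    calc g * n * g⁻¹ * (g * e * g⁻¹) * (g * n * g⁻¹)⁻¹ = g * (n * e * n⁻¹) * g⁻¹ := by group
      _ = _ := by rw [hh]; group

lemma TV.congr (h : TV E n c) (hm : m ∈ normalizer (E : Set G)) (hs : SameAct E m n) : TV E m c :=
  ⟨hm, h.mem, h.ne, fun e he => by rw [hs e he]; exact h.dich e he,
    by obtain ⟨e, he, hh⟩ := h.moved; exact ⟨e, he, by rw [hs e he, hh]⟩⟩

lemma SameAct.symm (h : SameAct E n m) : SameAct E m n := fun e he => (h e he).symm

lemma SameAct.trans {k : G} (h : SameAct E n m) (h' : SameAct E m k) : SameAct E n k :=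
  fun e he => (h e he).trans (h' e he)

section

variable [Finite G] {S : Sylow 2 G} {z x : G} (hS : Setting S E z x)

include hS

lemma Setting.mul_cancel {a b : G} (ha : a ∈ E) (hb : b ∈ E) : a * b * b = a ∧ b * (b * a) = a := by
  rw [mul_assoc, hS.sq b hb, mul_one, ← mul_assoc, hS.sq b hb, one_mul]
  exact ⟨rfl, rfl⟩

lemma TV.fix_centre (h : TV E n c) : n * c * n⁻¹ = c := by
  rcases h.dich c h.mem with e | e
  · exact e
  · rw [hS.sq c h.mem, conj_eq_one_iff] at e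
    exact absurd e h.ne

lemma TV.involutive (h : TV E n c) {e : G} (he : e ∈ E) : n * (n * e * n⁻¹) * n⁻¹ = e := by
  rcases h.dich e he with h1 | h1
  · rw [h1, h1]
  · rw [h1, ← conj_mul, h.fix_centre hS, h1, (hS.mul_cancel he h.mem).1]

lemma TV.inv_eq (h : TV E n c) {e : G} (he : e ∈ E) : n⁻¹ * e * n = n * e * n⁻¹ := by
  have := h.involutive hS he
  calc n⁻¹ * e * n = n⁻¹ * (n * (n * e * n⁻¹) * n⁻¹) * n := by rw [this]
    _ = _ := by group

/-- An element acting with fourth power trivial acts as an involution. -/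
lemma Setting.exp_two {y : G} (hy : y ∈ normalizer (E : Set G))
    (h4 : ∀ e ∈ E, y ^ 4 * e * (y ^ 4)⁻¹ = e) : ∀ e ∈ E, y * (y * e * y⁻¹) * y⁻¹ = e := by
  haveI : Fact (Nat.Prime 2) := ⟨Nat.prime_two⟩
  set N := normalizer (E : Set G) with hN
  obtain ⟨a, b, hb, hab⟩ := Nat.exists_eq_two_pow_mul_odd (orderOf_pos y).ne'
  obtain ⟨S₀, hS₀⟩ := hS.fn.syl
  set v : ↥N := ⟨y, hy⟩ ^ b with hv
  have hvp : IsPGroup 2 (zpowers v) := by
    obtain ⟨i, -, hi⟩ := (Nat.dvd_prime_pow Nat.prime_two).1 (orderOf_dvd_of_pow_eq_one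
      (x := v) (n := 2 ^ a) (Subtype.ext (by
        show (y ^ b) ^ 2 ^ a = 1
        rw [← pow_mul, mul_comm, ← hab, pow_orderOf_eq_one])))
    exact IsPGroup.of_card (n := i) (by rw [Nat.card_zpowers, hi])
  obtain ⟨P, hP⟩ := hvp.exists_le_sylow
  obtain ⟨h, hh⟩ := MulAction.exists_smul_eq ↥N P S₀
  have hmem : h * v * h⁻¹ ∈ (S₀ : Subgroup ↥N) := by
    rw [← hh]
    exact ⟨v, hP (mem_zpowers v), rfl⟩
  have hs : ((h * v * h⁻¹ : ↥N) : G) ∈ (S : Subgroup G) ⊓ N := by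
    rw [← hS₀]; exact ⟨_, hmem, rfl⟩
  have hv2 : ∀ e ∈ E, y ^ b * (y ^ b * e * (y ^ b)⁻¹) * (y ^ b)⁻¹ = e := by
    intro e he
    have he' : (h : G) * e * (h : G)⁻¹ ∈ E := (mem_normalizer_iff.1 h.2 e).1 he
    have h1 := hS.exp _ hs _ he'
    have hvy : ((v : ↥N) : G) = y ^ b := rfl
    rw [Subgroup.coe_mul, Subgroup.coe_mul, Subgroup.coe_inv, hvy] at h1
    refine mul_left_cancel (a := (h : G)) (mul_right_cancel (b := (h : G)⁻¹) ?_)
    refine Eq.trans ?_ h1
    group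
  intro e he
  obtain ⟨t, ht⟩ := hb
  have h4' : ∀ i : ℕ, ∀ e ∈ E, (y ^ 4) ^ i * e * ((y ^ 4) ^ i)⁻¹ = e := fun i e he =>
    conj_pow_eq (h4 e he) i
  have h5 := hv2 e he
  calc y * (y * e * y⁻¹) * y⁻¹
      = y * y * ((y ^ 4) ^ t * e * ((y ^ 4) ^ t)⁻¹) * (y * y)⁻¹ := by rw [h4' t e he]; group
    _ = y ^ b * (y ^ b * e * (y ^ b)⁻¹) * (y ^ b)⁻¹ := by
      have e1 : y ^ b * y ^ b = y * y * (y ^ 4) ^ t := by
        rw [← pow_add, ← pow_two, ← pow_mul, ← pow_add, ht]; congr 1; omega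
      calc y * y * ((y ^ 4) ^ t * e * ((y ^ 4) ^ t)⁻¹) * (y * y)⁻¹
          = (y * y * (y ^ 4) ^ t) * e * (y * y * (y ^ 4) ^ t)⁻¹ := by group
        _ = _ := by rw [← e1]; group
    _ = e := h5

/-- Commuting transvections with centres conjugate to `z` act alike. -/
lemma Setting.commuting (hn : TV E n c) (hm : TV E m d) (hc : IsConj z c) (hd : IsConj z d)
    (h1 : n * d * n⁻¹ = d) (h2 : m * c * m⁻¹ = c) : SameAct E n m := by
  haveI : Fact (Nat.Prime 2) := ⟨Nat.prime_two⟩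
  set N := normalizer (E : Set G) with hN
  set ρ := E.normalizerMonoidHom with hρ
  have happ : ∀ (v : ↥N) (e : ↥E), ((ρ v e : ↥E) : G) = (v : G) * e * (v : G)⁻¹ := fun v e => rfl
  set a : MulAut ↥E := ρ ⟨n, hn.norm⟩ with ha
  set b : MulAut ↥E := ρ ⟨m, hm.norm⟩ with hb
  have hcomm : a * b = b * a := by
    refine MulEquiv.ext fun e => Subtype.ext ?_
    show n * (m * e * m⁻¹) * n⁻¹ = m * (n * e * n⁻¹) * m⁻¹
    rcases hm.dich e e.2 with e1 | e1 <;> rcases hn.dich e e.2 with e2 | e2 <;> rw [e1, e2]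
    · rw [e1]
    · rw [← conj_mul, e1, h2]
    · rw [← conj_mul, e2, h1, e1]
    · rw [← conj_mul, ← conj_mul, e1, e2, h1, h2, mul_assoc, mul_assoc,
        hS.comm c hn.mem d hm.mem]
  have hsqa : a * a = 1 := MulEquiv.ext fun e => Subtype.ext (hn.involutive hS e.2)
  have hsqb : b * b = 1 := MulEquiv.ext fun e => Subtype.ext (hm.involutive hS e.2)
  have hA : IsPGroup 2 (zpowers a) := by
    obtain ⟨i, -, hi⟩ := (Nat.dvd_prime_pow Nat.prime_two).1 (orderOf_dvd_of_pow_eq_one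
      (x := a) (n := 2 ^ 1) (by rw [show (2 : ℕ) ^ 1 = 2 from rfl, pow_two, hsqa]))
    exact IsPGroup.of_card (n := i) (by rw [Nat.card_zpowers, hi])
  have hB : IsPGroup 2 (zpowers b) := by
    obtain ⟨i, -, hi⟩ := (Nat.dvd_prime_pow Nat.prime_two).1 (orderOf_dvd_of_pow_eq_one
      (x := b) (n := 2 ^ 1) (by rw [show (2 : ℕ) ^ 1 = 2 from rfl, pow_two, hsqb]))
    exact IsPGroup.of_card (n := i) (by rw [Nat.card_zpowers, hi])
  have hAB : IsPGroup 2 (zpowers a ⊔ zpowers b : Subgroup (MulAut ↥E)) := by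
    refine hA.to_sup_of_normal_right' hB ?_
    rw [zpowers_le, mem_normalizer_iff]
    have hca : ∀ w ∈ zpowers b, a * w * a⁻¹ = w := fun w hw => by
      obtain ⟨j, rfl⟩ := mem_zpowers_iff.1 hw
      rw [((show Commute a b from hcomm).zpow_right j).eq, mul_inv_cancel_right]
    intro w
    refine ⟨fun hw => by rw [hca w hw]; exact hw, fun hw => ?_⟩
    have := hca _ hw
    rw [show a * w * a⁻¹ = w from by
      exact mul_left_cancel (a := a) (mul_right_cancel (b := a⁻¹) this)] at hw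
    exact hw
  obtain ⟨S₀, hS₀⟩ := hS.fn.syl
  have hle : zpowers a ⊔ zpowers b ≤ ρ.range :=
    sup_le (zpowers_le.2 ⟨_, rfl⟩) (zpowers_le.2 ⟨_, rfl⟩)
  set T := S₀.mapSurjective ρ.rangeRestrict_surjective with hT
  have hsub : IsPGroup 2 ((zpowers a ⊔ zpowers b).subgroupOf ρ.range) := hAB.comap_subtype
  obtain ⟨P, hP⟩ := hsub.exists_le_sylow
  obtain ⟨w, hw⟩ := MulAction.exists_smul_eq ρ.range P T
  obtain ⟨h, hh⟩ := ρ.rangeRestrict_surjective w
  subst hh
  have key : ∀ v : ↥N, ρ v ∈ zpowers a ⊔ zpowers b → ∀ c', TV E (v : G) c' → IsConj z c' →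
      SameAct E ((h : G) * v * (h : G)⁻¹) x := by
    intro v hv c' hv' hc'
    have h3 : ρ.rangeRestrict h * ρ.rangeRestrict v * (ρ.rangeRestrict h)⁻¹ ∈ (T : Subgroup ρ.range) := by
      rw [← hw]
      exact ⟨_, hP (show ρ.rangeRestrict v ∈ (zpowers a ⊔ zpowers b).subgroupOf ρ.range from hv), rfl⟩
    obtain ⟨s, hs, hse⟩ := h3
    have hsm : ((s : ↥N) : G) ∈ (S : Subgroup G) ⊓ N := by rw [← hS₀]; exact ⟨s, hs, rfl⟩
    have hact : SameAct E (s : G) ((h : G) * v * (h : G)⁻¹) := by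
      intro e he
      rw [← map_mul, ← map_inv, ← map_mul] at hse
      have := congrArg (fun q : ρ.range => (((q : MulAut ↥E) ⟨e, he⟩ : ↥E) : G)) hse
      exact this
    exact hact.symm.trans (hS.uniq _ hsm _ ((hv'.conj h.2).congr s.2 hact)
      (hc'.trans (isConj_iff.2 ⟨(h : G), rfl⟩)))
  have hna := key ⟨n, hn.norm⟩ (mem_sup_left (mem_zpowers a)) c hn hc
  have hmb := key ⟨m, hm.norm⟩ (mem_sup_right (mem_zpowers b)) d hm hd
  intro e he
  have he' : (h : G) * e * (h : G)⁻¹ ∈ E := (mem_normalizer_iff.1 h.2 e).1 he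
  have h5 := (hna _ he').trans (hmb _ he').symm
  refine mul_left_cancel (a := (h : G)) (mul_right_cancel (b := (h : G)⁻¹) ?_)
  refine Eq.trans ?_ (h5.trans ?_) <;> group

/-- One-sided displacement of centres does not occur. -/
lemma Setting.symm_fix (hn : TV E n c) (hm : TV E m d) (h : m * c * m⁻¹ = c) :
    n * d * n⁻¹ = d := by
  rcases hn.dich d hm.mem with h1 | h1
  · exact h1
  exfalso
  have hy : n * m ∈ normalizer (E : Set G) := mul_mem hn.norm hm.norm
  have act : ∀ e, n * m * e * (n * m)⁻¹ = n * (m * e * m⁻¹) * n⁻¹ := fun e => by group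
  have yc : n * m * c * (n * m)⁻¹ = c := by rw [act, h, hn.fix_centre hS]
  have yd : n * m * d * (n * m)⁻¹ = d * c := by rw [act, hm.fix_centre hS, h1]
  have step : ∀ e ∈ E, ∃ δ, (δ = 1 ∨ δ = c ∨ δ = d ∨ δ = d * c) ∧
      n * m * e * (n * m)⁻¹ = e * δ := by
    intro e he
    rw [act]
    rcases hm.dich e he with e1 | e1 <;> rw [e1]
    · rcases hn.dich e he with e2 | e2 <;> rw [e2]
      · exact ⟨1, Or.inl rfl, (mul_one e).symm⟩
      · exact ⟨c, Or.inr (Or.inl rfl), rfl⟩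
    · rw [← conj_mul, h1]
      rcases hn.dich e he with e2 | e2 <;> rw [e2]
      · exact ⟨d * c, Or.inr (Or.inr (Or.inr rfl)), rfl⟩
      · refine ⟨d, Or.inr (Or.inr (Or.inl rfl)), ?_⟩
        rw [mul_assoc, hS.comm d hm.mem c hn.mem, ← mul_assoc c, hS.sq c hn.mem, one_mul]
  have two : ∀ e ∈ E, n * m * (n * m * e * (n * m)⁻¹) * (n * m)⁻¹ = e ∨
      n * m * (n * m * e * (n * m)⁻¹) * (n * m)⁻¹ = e * c := by
    intro e he
    obtain ⟨δ, hδ, he1⟩ := step e he
    rw [he1, ← conj_mul, he1]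
    rcases hδ with rfl | rfl | rfl | rfl
    · left; simp
    · left; rw [yc, (hS.mul_cancel he hn.mem).1]
    · right; rw [yd, ← mul_assoc, (hS.mul_cancel he hm.mem).1]
    · right
      rw [← conj_mul, yd, yc, ← mul_assoc (e * (d * c)) (d * c) c, mul_assoc e (d * c) (d * c),
        hS.sq _ (mul_mem hm.mem hn.mem), mul_one]
  have h4 : ∀ e ∈ E, (n * m) ^ 4 * e * ((n * m) ^ 4)⁻¹ = e := by
    intro e he
    have he2 : n * m * (n * m * e * (n * m)⁻¹) * (n * m)⁻¹ ∈ E :=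
      (mem_normalizer_iff.1 hy _).1 ((mem_normalizer_iff.1 hy _).1 he)
    have e4 : (n * m) ^ 4 * e * ((n * m) ^ 4)⁻¹ =
        n * m * (n * m * (n * m * (n * m * e * (n * m)⁻¹) * (n * m)⁻¹) * (n * m)⁻¹) * (n * m)⁻¹ := by
      simp only [pow_succ, pow_zero, one_mul]
      group
    rw [e4]
    rcases two e he with h2 | h2 <;> rw [h2]
    · rcases two e he with h3 | h3
      · exact h3
      · rw [h3] at h2; exact absurd (mul_eq_left.1 h2) hn.ne
    · rcases two e he with h3 | h3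
      · rw [h3] at h2; exact absurd (mul_eq_left.1 h2.symm) hn.ne
      · rw [show n * m * (n * m * (e * c) * (n * m)⁻¹) * (n * m)⁻¹ =
            (n * m * (n * m * e * (n * m)⁻¹) * (n * m)⁻¹) * (n * m * (n * m * c * (n * m)⁻¹) * (n * m)⁻¹)
          by group, h3, yc, yc, (hS.mul_cancel he hn.mem).1]
  obtain ⟨e, he, hme⟩ := hm.moved
  have hfix := hS.exp_two hy h4 e he
  obtain ⟨δ, -, he1⟩ := step e he
  have he1' : n * m * e * (n * m)⁻¹ = n * e * n⁻¹ * (d * c) := by rw [act, hme, ← conj_mul, h1]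
  rcases hn.dich e he with e2 | e2 <;> rw [e2] at he1'
  · rw [he1', ← conj_mul, he1', ← conj_mul, yd, yc, ← mul_assoc (e * (d * c)) (d * c) c,
      mul_assoc e (d * c) (d * c), hS.sq _ (mul_mem hm.mem hn.mem), mul_one] at hfix
    exact hn.ne (mul_eq_left.1 hfix)
  · have he3 : n * m * e * (n * m)⁻¹ = e * d := by
      rw [he1', mul_assoc, hS.comm d hm.mem c hn.mem, ← mul_assoc c, hS.sq c hn.mem, one_mul]
    rw [he3, ← conj_mul, he3, yd, ← mul_assoc, (hS.mul_cancel he hm.mem).1] at hfix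
    exact hn.ne (mul_eq_left.1 hfix)

/-- The third transvection. -/
lemma Setting.third (hn : TV E n c) (hm : TV E m d) (h1 : n * d * n⁻¹ = d * c)
    (h2 : m * c * m⁻¹ = c * d) :
    TV E (n * m * n⁻¹) (d * c) ∧ (n * m * n⁻¹) * c * (n * m * n⁻¹)⁻¹ = d ∧
      ∀ e ∈ E, n * e * n⁻¹ = e → m * e * m⁻¹ = e → (n * m * n⁻¹) * e * (n * m * n⁻¹)⁻¹ = e := by
  have hu := hm.conj hn.norm
  rw [h1] at hu
  refine ⟨hu, ?_, fun e he hne hme => ?_⟩
  · have hcn : n⁻¹ * c * n = c := by rw [hn.inv_eq hS hn.mem, hn.fix_centre hS]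
    calc (n * m * n⁻¹) * c * (n * m * n⁻¹)⁻¹ = n * (m * (n⁻¹ * c * n) * m⁻¹) * n⁻¹ := by group
      _ = d := by
        rw [hcn, h2, ← conj_mul, hn.fix_centre hS, h1, hS.comm d hm.mem c hn.mem, ← mul_assoc,
          hS.sq c hn.mem, one_mul]
  · have hcn : n⁻¹ * e * n = e := by rw [hn.inv_eq hS he, hne]
    calc (n * m * n⁻¹) * e * (n * m * n⁻¹)⁻¹ = n * (m * (n⁻¹ * e * n) * m⁻¹) * n⁻¹ := by group
      _ = e := by rw [hcn, hme, hne]

/-- Distinct centres conjugate to `z` move one another. -/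
lemma Setting.move (hn : TV E n c) (hm : TV E m d) (hc : IsConj z c) (hd : IsConj z d)
    (hne : c ≠ d) : n * d * n⁻¹ = d * c ∧ m * c * m⁻¹ = c * d := by
  have hnd : ¬ (n * d * n⁻¹ = d ∧ m * c * m⁻¹ = c) := by
    rintro ⟨h1, h2⟩
    have hs := hS.commuting hn hm hc hd h1 h2
    obtain ⟨e, he, hh⟩ := hn.moved
    rcases hm.dich e he with h3 | h3 <;> rw [← hs e he, hh] at h3
    · exact hn.ne (mul_eq_left.1 h3)
    · exact hne (mul_left_cancel h3)
  rcases hn.dich d hm.mem with h1 | h1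
  · exact absurd ⟨h1, hS.symm_fix hm hn h1⟩ hnd
  · rcases hm.dich c hn.mem with h2 | h2
    · exact absurd ⟨hS.symm_fix hn hm h2, h2⟩ hnd
    · exact ⟨h1, h2⟩

/-- Transvections with centres in different classes fix one another's centres. -/
lemma Setting.mixed (hn : TV E n c) (hm : TV E m d) (hc : IsConj z c) (hd : ¬ IsConj z d) :
    n * d * n⁻¹ = d ∧ m * c * m⁻¹ = c := by
  rcases hm.dich c hn.mem with h2 | h2
  · exact ⟨hS.symm_fix hn hm h2, h2⟩
  · rcases hn.dich d hm.mem with h1 | h1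
    · exact ⟨h1, hS.symm_fix hm hn h1⟩
    · exact absurd (hc.trans (isConj_iff.2 ⟨_, (hS.third hn hm h1 h2).2.1⟩)) hd

/-- Equal centres conjugate to `z` give equal action. -/
lemma Setting.same_centre (hn : TV E n c) (hm : TV E m c) (hc : IsConj z c) : SameAct E n m :=
  hS.commuting hn hm hc hc (hn.fix_centre hS) (hm.fix_centre hS)

/-- There are at most three centres. -/
lemma Setting.three {p q : G} (hn : TV E n c) (hm : TV E m d) (hp : TV E p q) (hc : IsConj z c)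
    (hd : IsConj z d) (hq : IsConj z q) (hne : c ≠ d) : q = c ∨ q = d ∨ q = d * c := by
  by_contra h
  push Not at h
  obtain ⟨h1, h2⟩ := hS.move hn hm hc hd hne
  obtain ⟨hu, -, -⟩ := hS.third hn hm h1 h2
  have hdc : IsConj z (d * c) := hd.trans (isConj_iff.2 ⟨n, h1⟩)
  have h3 := (hS.move hp hu hq hdc h.2.2).1
  rw [← conj_mul, (hS.move hp hm hq hd h.2.1).1, (hS.move hp hn hq hc h.1).1,
    mul_assoc d q, ← mul_assoc q c q, hS.comm q hp.mem c hn.mem, mul_assoc c q q, hS.sq q hp.mem,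
    mul_one] at h3
  exact hp.ne (mul_eq_left.1 h3.symm)

end

end Cfsg.Agent.ProductFusion.DD
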