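import Cfsg.Agent.GStructB.ProductFusion.DD.Auts
import Cfsg.Agent.GStructB.ProductFusion.DD.TV

/-!
The elementary abelian subgroups of order sixteen, conjugacy of central elements.
-/

set_option autoImplicit false
set_option linter.style.haveILetI false
set_option linter.unusedSectionVars false

open Subgroup DihedralGroup

namespace Cfsg.Agent.ProductFusion.DD

open Cfsg.Agent.Techniques.Alperin.Basic Cfsg.Agent.Techniques.Alperin.Radical

universe u

variable {G : Type u} [Group G] [Finite G] {S : Sylow 2 G} {k l : ℕ}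

lemma four_map_shift (i : ZMod (2 ^ (k + 1))) :
    (Four (0 : ZMod (2 ^ (k + 1)))).map (shift i).toMonoidHom = Four i := by
  rw [four_shift, zero_add]

lemma flip_cases {i : ZMod (2 ^ (k + 1))} {a : Dk k} (h : a * sr i * a⁻¹ ∈ Four i) :
    a * sr i * a⁻¹ = sr i ∨ a * sr i * a⁻¹ = sr i * zk k := by
  have hr := (refl_sr i).conj_refl a
  rcases mem_four.1 h with e | e | e | e
  · exact absurd e hr.ne_one
  · exact absurd e hr.ne_z
  · exact Or.inl e
  · exact Or.inr e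

lemma conj_z (a : Dk k) : a * zk k * a⁻¹ = zk k := by rw [← z_comm, mul_inv_cancel_right]

/-- Conjugation on a four-group is determined by the effect on its reflection. -/
lemma four_conj_eq {i : ZMod (2 ^ (k + 1))} {a b : Dk k} (h : a * sr i * a⁻¹ = b * sr i * b⁻¹)
    {y : Dk k} (hy : y ∈ Four i) : a * y * a⁻¹ = b * y * b⁻¹ := by
  rcases mem_four.1 hy with rfl | rfl | rfl | rfl
  · simp
  · rw [conj_z, conj_z]
  · exact h
  · rw [← conj_mul, ← conj_mul, h, conj_z, conj_z]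

lemma Rot.flip {w : Dk k} (hw : Rot w) (h : w * w = zk k) (i : ZMod (2 ^ (k + 1))) :
    w * sr i * w⁻¹ = sr i * zk k := by
  have h1 := (refl_sr i).conj_rot hw
  have h2 : sr i * w = w⁻¹ * sr i := by
    rw [← h1, (refl_sr i).inv]
    rw [mul_assoc (sr i * w), (refl_sr i).sq, mul_one]
  calc w * sr i * w⁻¹ = w * (sr i * w) * (w⁻¹ * w⁻¹) := by group
    _ = sr i * (w * w)⁻¹ := by rw [h2]; group
    _ = sr i * zk k := by rw [h, z_inv]

namespace Coord

variable (c : Coord S k l)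

/-- The elementary abelian subgroup of order sixteen. -/
def quad (i : ZMod (2 ^ (k + 1))) (j : ZMod (2 ^ (l + 1))) : Subgroup G :=
  ((Four i).prod (Four j)).map c.f

variable {c}

lemma mem_quad {i : ZMod (2 ^ (k + 1))} {j : ZMod (2 ^ (l + 1))} {p : Dk k × Dk l} :
    c.f p ∈ c.quad i j ↔ p.1 ∈ Four i ∧ p.2 ∈ Four j :=
  (mem_map_iff_mem c.inj).trans mem_prod

lemma exists_quad {i : ZMod (2 ^ (k + 1))} {j : ZMod (2 ^ (l + 1))} {x : G} (hx : x ∈ c.quad i j) :
    ∃ p : Dk k × Dk l, p.1 ∈ Four i ∧ p.2 ∈ Four j ∧ c.f p = x := by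
  obtain ⟨p, hp, rfl⟩ := hx
  exact ⟨p, hp.1, hp.2, rfl⟩

variable (c)

lemma quad_le (i : ZMod (2 ^ (k + 1))) (j : ZMod (2 ^ (l + 1))) : c.quad i j ≤ (S : Subgroup G) := by
  rintro _ ⟨p, -, rfl⟩; exact c.mem p

lemma quad_sq {i : ZMod (2 ^ (k + 1))} {j : ZMod (2 ^ (l + 1))} {x : G} (hx : x ∈ c.quad i j) :
    x * x = 1 := by
  obtain ⟨p, h1, h2, rfl⟩ := exists_quad hx
  rw [← map_mul, show p * p = 1 from Prod.ext (four_sq h1) (four_sq h2), map_one]

lemma quad_comm {i : ZMod (2 ^ (k + 1))} {j : ZMod (2 ^ (l + 1))} :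
    ∀ x ∈ c.quad i j, ∀ y ∈ c.quad i j, x * y = y * x := by
  intro x hx y hy
  obtain ⟨p, h1, h2, rfl⟩ := exists_quad hx
  obtain ⟨q, h3, h4, rfl⟩ := exists_quad hy
  rw [← map_mul, ← map_mul, show p * q = q * p from Prod.ext (four_comm h1 h3) (four_comm h2 h4)]

lemma card_four (i : ZMod (2 ^ (k + 1))) :
    Nat.card (Four i) = Nat.card (Four (0 : ZMod (2 ^ (k + 1)))) := by
  rw [← four_map_shift i, card_map_of_injective (shift i).injective]

lemma prod_map_shift (i : ZMod (2 ^ (k + 1))) (j : ZMod (2 ^ (l + 1))) :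
    ((Four (0 : ZMod (2 ^ (k + 1)))).prod (Four (0 : ZMod (2 ^ (l + 1))))).map
      ((shift i).prodCongr (shift j)).toMonoidHom = (Four i).prod (Four j) := by
  rw [← four_map_shift i, ← four_map_shift j]
  ext p
  constructor
  · rintro ⟨q, hq, rfl⟩
    exact ⟨⟨q.1, hq.1, rfl⟩, ⟨q.2, hq.2, rfl⟩⟩
  · rintro ⟨⟨a, ha, hae⟩, ⟨b, hb, hbe⟩⟩
    exact ⟨(a, b), ⟨ha, hb⟩, Prod.ext hae hbe⟩

lemma card_quad (i : ZMod (2 ^ (k + 1))) (j : ZMod (2 ^ (l + 1))) :
    Nat.card (c.quad i j) = Nat.card (c.quad 0 0) := by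
  rw [quad, quad, card_map_of_injective c.inj, card_map_of_injective c.inj, ← prod_map_shift i j,
    card_map_of_injective ((shift i).prodCongr (shift j)).injective]

lemma inf_normalizer_quad (i : ZMod (2 ^ (k + 1))) (j : ZMod (2 ^ (l + 1))) :
    (S : Subgroup G) ⊓ normalizer (c.quad i j : Set G) =
      (normalizer ((Four i).prod (Four j) : Set (Dk k × Dk l))).map c.f := by
  ext x
  constructor
  · intro hx
    obtain ⟨hxS, hxN⟩ := mem_inf.1 hx
    obtain ⟨p, rfl⟩ := c.exists_of_mem hxS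
    refine ⟨p, mem_normalizer_iff.2 fun q => ?_, rfl⟩
    have h := mem_normalizer_iff.1 hxN (c.f q)
    rw [← map_mul, ← map_inv, ← map_mul] at h
    exact (mem_map_iff_mem c.inj).symm.trans (h.trans (mem_map_iff_mem c.inj))
  · rintro ⟨p, hp, rfl⟩
    exact mem_inf.2 ⟨c.mem p, le_normalizer_map c.f ⟨p, hp, rfl⟩⟩

lemma card_inf_normalizer_quad (i : ZMod (2 ^ (k + 1))) (j : ZMod (2 ^ (l + 1))) :
    Nat.card ↥((S : Subgroup G) ⊓ normalizer (c.quad i j : Set G)) =
      Nat.card ↥((S : Subgroup G) ⊓ normalizer (c.quad 0 0 : Set G)) := by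
  rw [inf_normalizer_quad, inf_normalizer_quad, card_map_of_injective c.inj,
    card_map_of_injective c.inj, ← prod_map_shift i j, ← map_equiv_normalizer_eq,
    card_map_of_injective ((shift i).prodCongr (shift j)).injective]

/-- A subgroup of `S` of exponent two and order sixteen is one of them. -/
lemma eq_quad {E : Subgroup G} (hE : E ≤ (S : Subgroup G)) (hsq : ∀ x ∈ E, x * x = 1)
    (hcard : Nat.card E = Nat.card (c.quad 0 0)) : ∃ i j, E = c.quad i j := by
  have key : ∀ {m : ℕ} (A : Subgroup (Dk m)), (∀ a ∈ A, a * a = 1) →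
      ∃ i, ∀ a ∈ A, a ∈ Four i := by
    intro m A hA
    by_cases h : ∃ a ∈ A, Refl a
    · obtain ⟨s, hs, i, rfl⟩ := h
      refine ⟨i, fun a ha => mem_centralizer_singleton_iff.2 ?_⟩
      rw [← inv_eq_of_mul_eq_one_right (hA _ (mul_mem ha hs)), mul_inv_rev,
        inv_eq_of_mul_eq_one_right (hA a ha), inv_eq_of_mul_eq_one_right (hA _ hs)]
    · refine ⟨0, fun a ha => ?_⟩
      rcases (rot_of_not_refl fun hr => h ⟨a, ha, hr⟩).eq_one_or_z (hA a ha) with e | e <;> rw [e]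
      · exact one_mem _
      · exact z_mem_four 0
  obtain ⟨i, hi⟩ := key ((c.pre E).map (MonoidHom.fst (Dk k) (Dk l))) (by
    rintro _ ⟨p, hp, rfl⟩
    have := c.inj (show c.f (p * p) = c.f 1 by rw [map_mul, map_one]; exact hsq _ hp)
    exact congrArg Prod.fst this)
  obtain ⟨j, hj⟩ := key ((c.pre E).map (MonoidHom.snd (Dk k) (Dk l))) (by
    rintro _ ⟨p, hp, rfl⟩
    have := c.inj (show c.f (p * p) = c.f 1 by rw [map_mul, map_one]; exact hsq _ hp)
    exact congrArg Prod.snd this)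
  refine ⟨i, j, eq_of_le_of_card_ge (fun x hx => ?_) (by rw [hcard, c.card_quad])⟩
  obtain ⟨p, hp, rfl⟩ := c.exists_pre hE hx
  exact mem_quad.2 ⟨hi _ ⟨p, hp, rfl⟩, hj _ ⟨p, hp, rfl⟩⟩

lemma fullyNormalized_quad (i : ZMod (2 ^ (k + 1))) (j : ZMod (2 ^ (l + 1))) :
    FullyNormalized 2 (S : Subgroup G) (c.quad i j) := by
  haveI : Fact (Nat.Prime 2) := ⟨Nat.prime_two⟩
  obtain ⟨a, ha, hfn⟩ := exists_fullyNormalized (P := S) (c.quad_le i j)
  obtain ⟨i', j', he⟩ := c.eq_quad hfn.le (fun x hx => by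
    have h1 := c.quad_sq (mem_cv.1 hx)
    have h2 : a * (x * x) * a⁻¹ = 1 := by rw [← conj_mul]; exact h1
    exact conj_eq_one_iff.1 h2) (by rw [card_cv, c.card_quad])
  have h1 : cv a ((S : Subgroup G) ⊓ normalizer (c.quad i j : Set G)) =
      (S : Subgroup G) ⊓ normalizer (cv a (c.quad i j) : Set G) := by
    refine eq_of_le_of_card_ge (le_inf ha ?_) ?_
    · rw [← cv_normalizer]; exact cv_mono a inf_le_right
    · rw [card_cv, he, c.card_inf_normalizer_quad i' j', c.card_inf_normalizer_quad i j]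
  refine ⟨c.quad_le i j, ?_⟩
  have h2 : CharP.IsSylIn 2 (cv a⁻¹ ((S : Subgroup G) ⊓ normalizer (cv a (c.quad i j) : Set G)))
      (cv a⁻¹ (normalizer (cv a (c.quad i j) : Set G))) := hfn.syl.conj _
  rwa [← h1, cv_cv, mul_inv_cancel, cv_one, ← cv_normalizer, cv_cv, mul_inv_cancel, cv_one] at h2

/-- The setting at an elementary abelian subgroup of order sixteen. -/
theorem quad_setting (hnc : ¬ IsConj (c.f (zk k, 1)) (c.f (1, zk l))) {w : Dk k} (hw : Rot w)
    (hww : w * w = zk k) (i : ZMod (2 ^ (k + 1))) (j : ZMod (2 ^ (l + 1))) :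
    Setting S (c.quad i j) (c.f (zk k, 1)) (c.f (w, 1)) := by
  have hflip : ∀ s ∈ (S : Subgroup G) ⊓ normalizer (c.quad i j : Set G), ∃ p : Dk k × Dk l,
      c.f p = s ∧ (p.1 * sr i * p.1⁻¹ = sr i ∨ p.1 * sr i * p.1⁻¹ = sr i * zk k) ∧
      (p.2 * sr j * p.2⁻¹ = sr j ∨ p.2 * sr j * p.2⁻¹ = sr j * zk l) := by
    intro s hs
    rw [inf_normalizer_quad] at hs
    obtain ⟨p, hp, rfl⟩ := hs
    have h1 := (mem_normalizer_iff.1 hp (sr i, sr j)).1 ⟨sr_mem_four i, sr_mem_four j⟩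
    exact ⟨p, rfl, flip_cases h1.1, flip_cases h1.2⟩
  refine ⟨c.quad_comm, fun a ha => c.quad_sq ha, c.fullyNormalized_quad i j, ?_, ?_⟩
  · intro s hs e he
    obtain ⟨p, rfl, h1, h2⟩ := hflip s hs
    obtain ⟨q, hq1, hq2, rfl⟩ := exists_quad he
    rw [← map_inv, ← map_mul, ← map_mul, ← map_mul, ← map_mul]
    refine congrArg c.f (Prod.ext ?_ ?_)
    · show p.1 * (p.1 * q.1 * p.1⁻¹) * p.1⁻¹ = q.1
      rw [show p.1 * (p.1 * q.1 * p.1⁻¹) * p.1⁻¹ = (p.1 * p.1) * q.1 * (p.1 * p.1)⁻¹ by group,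
        four_conj_eq (b := 1) ?_ hq1]
      · simp
      · rw [show (p.1 * p.1) * sr i * (p.1 * p.1)⁻¹ = p.1 * (p.1 * sr i * p.1⁻¹) * p.1⁻¹ by group]
        rcases h1 with h1 | h1
        · rw [h1, h1]; simp
        · rw [h1, ← conj_mul, h1, conj_z, mul_assoc, z_sq]; simp
    · show p.2 * (p.2 * q.2 * p.2⁻¹) * p.2⁻¹ = q.2
      rw [show p.2 * (p.2 * q.2 * p.2⁻¹) * p.2⁻¹ = (p.2 * p.2) * q.2 * (p.2 * p.2)⁻¹ by group,
        four_conj_eq (b := 1) ?_ hq2]
      · simp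
      · rw [show (p.2 * p.2) * sr j * (p.2 * p.2)⁻¹ = p.2 * (p.2 * sr j * p.2⁻¹) * p.2⁻¹ by group]
        rcases h2 with h2 | h2
        · rw [h2, h2]; simp
        · rw [h2, ← conj_mul, h2, conj_z, mul_assoc, z_sq]; simp
  · intro s hs d hd hdc
    obtain ⟨p, rfl, h1, h2⟩ := hflip s hs
    have e2 : p.2 * sr j * p.2⁻¹ = sr j := by
      refine h2.resolve_right fun h2 => hnc ?_
      have hm : c.f ((1 : Dk k), sr j) ∈ c.quad i j := mem_quad.2 ⟨one_mem _, sr_mem_four j⟩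
      have e : c.f p * c.f ((1 : Dk k), sr j) * (c.f p)⁻¹ = c.f (1, sr j) * c.f (1, zk l) := by
        rw [← map_inv, ← map_mul, ← map_mul, ← map_mul]
        exact congrArg c.f (Prod.ext (by simp) h2)
      rcases hd.dich _ hm with h | h <;> rw [e] at h
      · exact absurd (congrArg Prod.snd (c.inj ((mul_eq_left.1 h).trans (map_one c.f).symm))) z_ne_one
      · rwa [mul_left_cancel h]
    have e1 : p.1 * sr i * p.1⁻¹ = sr i * zk k := by
      refine h1.resolve_left fun h1 => ?_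
      obtain ⟨e, he, hmv⟩ := hd.moved
      obtain ⟨q, hq1, hq2, rfl⟩ := exists_quad he
      refine hd.ne (mul_eq_left.1 (hmv.symm.trans ?_))
      rw [← map_inv, ← map_mul, ← map_mul]
      refine congrArg c.f (Prod.ext ?_ ?_)
      · show p.1 * q.1 * p.1⁻¹ = q.1
        rw [four_conj_eq (b := 1) (by rw [h1]; simp) hq1]; simp
      · show p.2 * q.2 * p.2⁻¹ = q.2
        rw [four_conj_eq (b := 1) (by rw [e2]; simp) hq2]; simp
    intro e he
    obtain ⟨q, hq1, hq2, rfl⟩ := exists_quad he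
    rw [← map_inv, ← map_inv, ← map_mul, ← map_mul, ← map_mul, ← map_mul]
    refine congrArg c.f (Prod.ext ?_ ?_)
    · show p.1 * q.1 * p.1⁻¹ = w * q.1 * w⁻¹
      exact four_conj_eq (by rw [e1, hw.flip hww]) hq1
    · show p.2 * q.2 * p.2⁻¹ = 1 * q.2 * (1 : Dk l)⁻¹
      exact four_conj_eq (b := 1) (by rw [e2]; simp) hq2

lemma tv_left {w : Dk k} (hw : Rot w) (hww : w * w = zk k) (i : ZMod (2 ^ (k + 1)))
    (j : ZMod (2 ^ (l + 1))) : TV (c.quad i j) (c.f (w, 1)) (c.f (zk k, 1)) := by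
  have hconj : ∀ a ∈ Four i, w * a * w⁻¹ = a ∨ w * a * w⁻¹ = a * zk k := by
    intro a ha
    rcases mem_four.1 ha with rfl | rfl | rfl | rfl
    · left; simp
    · left; exact conj_z w
    · right; exact hw.flip hww i
    · right; rw [← conj_mul, hw.flip hww, conj_z]
  have hmem : ∀ q : Dk k × Dk l,
      c.f (w, 1) * c.f q * (c.f (w, 1))⁻¹ = c.f (w * q.1 * w⁻¹, q.2) := by
    intro q
    rw [← map_inv, ← map_mul, ← map_mul]
    exact congrArg c.f (Prod.ext rfl (by simp))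
  refine ⟨mem_normalizer_iff_conj_image_eq.2 (Set.eq_of_subset_of_ncard_le ?_ (by
      rw [Set.ncard_image_of_injective _ (MulAut.conj _).injective]) (Set.toFinite _)),
    mem_quad.2 ⟨z_mem_four i, one_mem _⟩,
    fun h => z_ne_one (congrArg Prod.fst (c.inj (h.trans (map_one c.f).symm))), fun e he => ?_, ?_⟩
  · rintro _ ⟨e, he, rfl⟩
    obtain ⟨q, h1, h2, rfl⟩ := exists_quad he
    show c.f (w, 1) * c.f q * (c.f (w, 1))⁻¹ ∈ c.quad i j
    rw [hmem]
    refine mem_quad.2 ⟨?_, h2⟩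
    rcases hconj _ h1 with h | h <;> rw [h]
    · exact h1
    · exact mul_mem h1 (z_mem_four i)
  · obtain ⟨q, h1, -, rfl⟩ := exists_quad he
    rw [hmem]
    rcases hconj _ h1 with h | h <;> rw [h]
    · exact Or.inl rfl
    · right; rw [← map_mul]; exact congrArg c.f (Prod.ext rfl (by simp))
  · refine ⟨c.f (sr i, 1), mem_quad.2 ⟨sr_mem_four i, one_mem _⟩, ?_⟩
    rw [hmem, ← map_mul]
    exact congrArg c.f (Prod.ext (hw.flip hww i) (by simp))

lemma z_left_central (p : Dk k × Dk l) : (zk k, (1 : Dk l)) * p = p * (zk k, 1) :=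
  Prod.ext (z_comm p.1) (by simp)

/-- A conjugate of the left central involution is a transvection centre. -/
lemma exists_tv {w : Dk k} (hw : Rot w) (hww : w * w = zk k) {i : ZMod (2 ^ (k + 1))}
    {j : ZMod (2 ^ (l + 1))} {x : G} (hx : x ∈ c.quad i j) (hc : IsConj (c.f (zk k, 1)) x) :
    ∃ t, TV (c.quad i j) t x := by
  haveI : Fact (Nat.Prime 2) := ⟨Nat.prime_two⟩
  obtain ⟨g, hg⟩ := isConj_iff.1 hc
  set z := c.f (zk k, 1) with hz
  have hSK : (S : Subgroup G) ≤ centralizer {z} := fun s hs => by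
    obtain ⟨p, rfl⟩ := c.exists_of_mem hs
    rw [mem_centralizer_singleton_iff, hz, ← map_mul, ← map_mul, z_left_central]
  have hle : cv g (c.quad i j) ≤ centralizer {z} := fun y hy => by
    have h1 := c.quad_comm _ (mem_cv.1 hy) x hx
    rw [← hg, conj_mul, conj_mul] at h1
    rw [mem_centralizer_singleton_iff]
    exact mul_left_cancel (mul_right_cancel h1)
  have hp : IsPGroup 2 (cv g (c.quad i j)) := (S.2.to_le (c.quad_le i j)).map _
  obtain ⟨h, hh, hB⟩ := Transfer.Fusion.exists_conj_le_of_isPGroup S hSK hp hle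
  set a := h * g⁻¹ with ha
  have hEa : cv a⁻¹ (c.quad i j) ≤ (S : Subgroup G) := by
    intro y hy
    refine hB ?_
    rw [Transfer.Fusion.mem_map_conj, mem_cv]
    have hy' := mem_cv.1 hy
    rw [ha] at hy'
    convert hy' using 1
    group
  obtain ⟨i', j', he⟩ := c.eq_quad hEa (fun y hy => by
    have h1 := c.quad_sq (mem_cv.1 hy)
    rw [conj_mul] at h1
    exact conj_eq_one_iff.1 h1) (by rw [card_cv, c.card_quad])
  have hxz : a * x * a⁻¹ = z := by
    have hhz : h * z = z * h := mem_centralizer_singleton_iff.1 hh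
    rw [ha, ← hg]
    calc h * g⁻¹ * (g * z * g⁻¹) * (h * g⁻¹)⁻¹ = h * z * h⁻¹ := by group
      _ = z := by rw [hhz, mul_inv_cancel_right]
  have hback : cv a (c.quad i' j') = c.quad i j := by
    rw [← he, cv_cv, inv_mul_cancel, cv_one]
  have hmemE : ∀ y, y ∈ c.quad i j ↔ a * y * a⁻¹ ∈ c.quad i' j' := fun y => by rw [← mem_cv, hback]
  have htv := c.tv_left hw hww i' j'
  refine ⟨a⁻¹ * c.f (w, 1) * a, ?_⟩
  refine ⟨?_, hx, fun e => z_ne_one (k := k) ?_, fun y hy => ?_, ?_⟩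
  · rw [mem_normalizer_iff]
    intro y
    rw [hmemE, hmemE, mem_normalizer_iff.1 htv.norm,
      show a * (a⁻¹ * c.f (w, 1) * a * y * (a⁻¹ * c.f (w, 1) * a)⁻¹) * a⁻¹ =
        c.f (w, 1) * (a * y * a⁻¹) * (c.f (w, 1))⁻¹ by group]
  · rw [e] at hxz
    exact congrArg Prod.fst (c.inj ((hxz.symm.trans (by group)).trans (map_one c.f).symm))
  · have e1 : a⁻¹ * c.f (w, 1) * a * y * (a⁻¹ * c.f (w, 1) * a)⁻¹ =
        a⁻¹ * (c.f (w, 1) * (a * y * a⁻¹) * (c.f (w, 1))⁻¹) * a := by group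
    rw [e1]
    rcases htv.dich _ ((hmemE y).1 hy) with h1 | h1 <;> rw [h1]
    · left; group
    · right; rw [← hz, ← hxz]; group
  · obtain ⟨y, hy, h1⟩ := htv.moved
    refine ⟨a⁻¹ * y * a, by rw [hmemE]; simpa [mul_assoc] using hy, ?_⟩
    calc a⁻¹ * c.f (w, 1) * a * (a⁻¹ * y * a) * (a⁻¹ * c.f (w, 1) * a)⁻¹ =
        a⁻¹ * (c.f (w, 1) * y * (c.f (w, 1))⁻¹) * a := by group
      _ = _ := by rw [h1, ← hz, ← hxz]; group

/-- Conjugate central elements of `S` are conjugate in its normalizer. -/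
lemma center_conj {p q : Dk k × Dk l} (hp : ∀ r, p * r = r * p) (hq : ∀ r, q * r = r * q)
    (h : IsConj (c.f p) (c.f q)) :
    ∃ n ∈ normalizer ((S : Subgroup G) : Set G), n * c.f p * n⁻¹ = c.f q := by
  haveI : Fact (Nat.Prime 2) := ⟨Nat.prime_two⟩
  obtain ⟨g, hg⟩ := isConj_iff.1 h
  have hfix : ∀ r : Dk k × Dk l, (∀ r', r * r' = r' * r) → ∀ x ∈ S,
      (fun y => x * y * x⁻¹) '' {c.f r} = {c.f r} := by
    intro r hr x hx
    obtain ⟨s, rfl⟩ := c.exists_of_mem hx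
    rw [Set.image_singleton, ← map_mul, ← hr s, map_mul, mul_inv_cancel_right]
  obtain ⟨n, hn, hne⟩ := Transfer.Fusion.burnside_fusion_set S (hfix p hp) (hfix q hq) (g := g)
    (by rw [Set.image_singleton, hg])
  rw [Set.image_singleton, Set.singleton_eq_singleton_iff] at hne
  exact ⟨n, hn, hne⟩

/-- Shift of the reflections in the first factor. -/
def shiftC (i : ZMod (2 ^ (k + 1))) : Coord S k l where
  f := c.f.comp ((shift i).prodCongr (MulEquiv.refl (Dk l))).toMonoidHom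
  inj := fun a b h => ((shift i).prodCongr (MulEquiv.refl (Dk l))).injective (c.inj h)
  range := by
    rw [MonoidHom.range_comp,
      MonoidHom.range_eq_top.2 ((shift i).prodCongr (MulEquiv.refl (Dk l))).surjective,
      ← MonoidHom.range_eq_map, c.range]

lemma shiftC_apply (i : ZMod (2 ^ (k + 1))) (p : Dk k × Dk l) :
    (c.shiftC i).f p = c.f (shift i p.1, p.2) := rfl

lemma shift_z (i : ZMod (2 ^ (k + 1))) : shift i (zk k) = zk k := rfl

lemma shiftC_z (i : ZMod (2 ^ (k + 1))) :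
    (c.shiftC i).f (zk k, 1) = c.f (zk k, 1) ∧ ∀ b, (c.shiftC i).f (1, b) = c.f (1, b) :=
  ⟨rfl, fun b => by rw [shiftC_apply, map_one]⟩

/-- Conjugate reflections give conjugate elements. -/
lemma isConj_sr {i i' : ZMod (2 ^ (k + 1))} {a : Dk k} (h : a * sr i * a⁻¹ = sr i') (b : Dk l) :
    IsConj (c.f (sr i, b)) (c.f (sr i', b)) :=
  isConj_iff.2 ⟨c.f (a, 1), by
    rw [← map_inv, ← map_mul, ← map_mul]
    exact congrArg c.f (Prod.ext h (by simp))⟩

end Coord

end Cfsg.Agent.ProductFusion.DD
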