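import Cfsg.Agent.GStructB.ProductFusion.DD.FourFour

/-!
Without a normal subgroup of index two every class of reflections is fused to the central involution.
-/

set_option autoImplicit false
set_option linter.style.haveILetI false
set_option linter.unusedSectionVars false

open Subgroup DihedralGroup

namespace Cfsg.Agent.ProductFusion.DD

open Cfsg.Agent.Techniques.Alperin.Radical

universe u

variable {G : Type u} [Group G] [Finite G] {S : Sylow 2 G} {k l : ℕ}

lemma Refl.commute_big {s w a : Dk k} (hs : Refl s) (hw : Rot w) (hne : w * w ≠ 1)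
    (h1 : a * s = s * a) (h2 : a * w = w * a) : a = 1 ∨ a = zk k := by
  rcases rot_or_refl a with ha | ha
  · exact hs.commute_rot ha h1.symm
  · rcases ha.commute_rot hw h2 with e | e <;> rw [e] at hne
    · exact absurd (one_mul 1) hne
    · exact absurd z_sq hne

lemma four_cases {i : ZMod (2 ^ (k + 1))} {a : Dk k} (ha : a ∈ Four i) :
    (a = 1 ∨ a = zk k) ∨ (a = sr i ∨ a = sr i * zk k) := by
  rcases mem_four.1 ha with e | e | e | e
  · exact Or.inl (Or.inl e)
  · exact Or.inl (Or.inr e)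
  · exact Or.inr (Or.inl e)
  · exact Or.inr (Or.inr e)

namespace Coord

variable (c : Coord S k l)

lemma swap_quad (i : ZMod (2 ^ (k + 1))) (j : ZMod (2 ^ (l + 1))) :
    c.swap.quad j i = c.quad i j := by
  ext x
  constructor
  · rintro ⟨p, hp, rfl⟩
    exact ⟨(p.2, p.1), ⟨hp.2, hp.1⟩, rfl⟩
  · rintro ⟨p, hp, rfl⟩
    exact ⟨(p.2, p.1), ⟨hp.2, hp.1⟩, rfl⟩

lemma eq_quad_of_pre {E : Subgroup G} (hE : E ≤ (S : Subgroup G)) {i : ZMod (2 ^ (k + 1))}
    {j : ZMod (2 ^ (l + 1))} (h1 : ∀ q ∈ c.pre E, q.1 ∈ Four i ∧ q.2 ∈ Four j)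
    (h2 : ∀ a ∈ Four i, (a, (1 : Dk l)) ∈ c.pre E) (h3 : ∀ b ∈ Four j, ((1 : Dk k), b) ∈ c.pre E) :
    E = c.quad i j := by
  refine le_antisymm (fun x hx => ?_) ?_
  · obtain ⟨q, hq, rfl⟩ := c.exists_pre hE hx
    exact mem_quad.2 (h1 q hq)
  · rintro _ ⟨q, hq, rfl⟩
    have := mul_mem (h2 _ hq.1) (h3 _ hq.2)
    rw [Prod.mk_mul_mk, mul_one, one_mul] at this
    exact this

/-- Both central involutions are fixed inside a product of two large factors. -/
lemma fix_zs {E : Subgroup G} (hE : IsCR 2 (S : Subgroup G) E) (hp : c.IsProd E) (hb : c.Big E)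
    (hb2 : c.swap.Big E) {g : G} (hg : g ∈ normalizer (E : Set G)) (ho : Odd (orderOf g))
    (hnc : ∀ p : Dk k × Dk l, (∀ r, p * r = r * p) →
      IsConj (c.f (zk k, 1)) (c.f p) → p = (zk k, 1)) :
    g * c.f (zk k, 1) * g⁻¹ = c.f (zk k, 1) ∧ g * c.f (1, zk l) * g⁻¹ = c.f (1, zk l) := by
  obtain ⟨ρ, hρ, hρ2, hρm⟩ := c.exists_root_mem hE hp hb
  obtain ⟨σ, hσ, hσ2, hσm⟩ := c.swap.exists_root_mem hE hp.swap hb2
  have himg : ∀ q ∈ c.pre E, (q * q) * (q * q) = 1 → q * q ≠ 1 → ∃ p : Dk k × Dk l,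
      g * c.f (q * q) * g⁻¹ = c.f p ∧ (∀ r, p * r = r * p) ∧ p ≠ 1 ∧
      (p.1 = 1 ∨ p.1 = zk k) ∧ (p.2 = 1 ∨ p.2 = zk l) := by
    intro q hq h4 hne
    obtain ⟨a, -, ha⟩ := c.pull hE.fn.le hg hq
    have h1 := c.sq_of_pull ha
    have h2 : (a * a) * (a * a) = 1 := c.inj (by rw [← c.sq_of_pull h1, h4, map_one]; group)
    have e1 := (sq_rot a.1).eq_one_or_z (congrArg Prod.fst h2)
    have e2 := (sq_rot a.2).eq_one_or_z (congrArg Prod.snd h2)
    refine ⟨a * a, h1, fun r => Prod.ext ?_ ?_, c.ne_one_of_pull h1 hne, e1, e2⟩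
    · show a.1 * a.1 * r.1 = r.1 * (a.1 * a.1)
      rcases e1 with e | e <;> rw [e] <;> simp [z_comm]
    · show a.2 * a.2 * r.2 = r.2 * (a.2 * a.2)
      rcases e2 with e | e <;> rw [e] <;> simp [z_comm]
  have hσm' : ((1 : Dk k), σ) ∈ c.pre E := hσm
  obtain ⟨p1, hp1, hp1c, -, -⟩ := himg _ hρm (by simp [hρ2, z_sq, ← Prod.one_eq_mk])
    (fun h => z_ne_one (hρ2.symm.trans (congrArg Prod.fst h)))
  obtain ⟨p2, hp2, -, hp2n, hp2a, hp2b⟩ := himg _ hσm' (by simp [hσ2, z_sq, ← Prod.one_eq_mk])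
    (fun h => z_ne_one (hσ2.symm.trans (congrArg Prod.snd h)))
  have hρσ : ((ρ, σ) : Dk k × Dk l) ∈ c.pre E := by simpa using mul_mem hρm hσm'
  obtain ⟨p3, hp3, -, hp3n, hp3a, hp3b⟩ := himg _ hρσ (by simp [hρ2, hσ2, z_sq, ← Prod.one_eq_mk])
    (fun h => z_ne_one (hρ2.symm.trans (congrArg Prod.fst h)))
  simp only [Prod.mk_mul_mk, hρ2, hσ2, one_mul] at hp1 hp2 hp3
  have e := hnc p1 hp1c (isConj_iff.2 ⟨g, hp1⟩)
  rw [e] at hp1
  refine ⟨hp1, ?_⟩
  have hcl : ∀ p : Dk k × Dk l, p ≠ 1 → (p.1 = 1 ∨ p.1 = zk k) → (p.2 = 1 ∨ p.2 = zk l) →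
      c.f p = c.f (zk k, 1) ∨ c.f p = c.f (1, zk l) ∨ c.f p = c.f (zk k, zk l) := by
    rintro ⟨a, b⟩ hn (rfl | rfl) (rfl | rfl)
    · exact absurd rfl hn
    all_goals simp
  refine fix_of_three (a := c.f (zk k, 1)) (c := c.f (zk k, zk l)) ho hp1
    (fun h => z_ne_one (congrArg Prod.fst (c.inj h)))
    (fun h => z_ne_one (congrArg Prod.snd (c.inj h)).symm) ?_ ?_
  · rw [hp2]; exact hcl p2 hp2n hp2a hp2b
  · rw [hp3]; exact hcl p3 hp3n hp3a hp3b

/-- The class of the base reflection is fused to the central involution. -/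
theorem exists_fused_zero (hk : 1 ≤ k) (h2 : ∀ N : Subgroup G, N.Normal → N.index ≠ 2)
    (hnc : ∀ p : Dk k × Dk l, (∀ r, p * r = r * p) →
      IsConj (c.f (zk k, 1)) (c.f p) → p = (zk k, 1)) :
    ∃ b : Dk l, (∀ y, b * y = y * b) ∧ IsConj (c.f (zk k, 1)) (c.f (sr 0, b)) := by
  by_contra hno
  push Not at hno
  set χ := chi (k := k) l true false with hχ
  obtain ⟨hχ0, hχ1⟩ := chi_sr (k := k) (l := l) true false
  rw [if_pos rfl] at hχ0
  rw [if_neg (by simp)] at hχ1
  have hχc : ∀ a d : Dk k, χ (d * a * d⁻¹) = χ a := by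
    intro a d
    rw [map_mul, map_mul, map_inv]
    rcases chi_mem (a := true) (b := false) (l := l) d with e | e <;> rw [hχ, e]
    · simp
    · rw [z_comm, mul_inv_cancel_right]
  have hcl : ∀ a : Dk k, Refl a → χ a ≠ 1 → ∀ b, (∀ y, b * y = y * b) →
      ¬ IsConj (c.f (zk k, 1)) (c.f (a, b)) := by
    rintro _ ⟨i, rfl⟩ hne b hb hconj
    obtain ⟨d, hd | hd⟩ := exists_shift i 0
    · exact hno b hb (hconj.trans (c.isConj_sr hd b).symm)
    · rw [← hd, hχc, zero_add, hχ, hχ1] at hne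
      exact hne rfl
  set M := (χ.comp (MonoidHom.fst (Dk k) (Dk l))).ker.map c.f with hM
  have hmem : ∀ p, c.f p ∈ M ↔ χ p.1 = 1 := fun p => mem_map_iff_mem c.inj
  have hpar : ∀ a ∈ S, ∀ b ∈ S, (a * b ∈ M ↔ (a ∈ M ↔ b ∈ M)) := by
    intro x hx y hy
    obtain ⟨p, rfl⟩ := c.exists_of_mem hx
    obtain ⟨q, rfl⟩ := c.exists_of_mem hy
    rw [← map_mul, hmem, hmem, hmem, Prod.fst_mul, map_mul]
    rcases chi_mem (a := true) (b := false) (l := l) p.1 with e | e <;>
      rcases chi_mem (a := true) (b := false) (l := l) q.1 with e' | e' <;>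
      simp [hχ, e, e', z_sq, z_ne_one]
  have hinv : ∀ x ∈ S, ∀ g : G, g * x * g⁻¹ ∈ S → (x ∈ M ↔ g * x * g⁻¹ ∈ M) := by
    refine preserved S (M : Set G) ?_ ?_
    · intro s hs x hx
      obtain ⟨p, rfl⟩ := c.exists_of_mem hs
      obtain ⟨q, rfl⟩ := c.exists_of_mem hx
      show c.f q ∈ M ↔ c.f p * c.f q * (c.f p)⁻¹ ∈ M
      rw [← map_mul, ← map_inv, ← map_mul, hmem, hmem, Prod.fst_mul, Prod.fst_mul, Prod.fst_inv,
        hχc]
    intro E hE g hg ho x hx hxM
    rcases c.shape hE with hp | htriv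
    swap
    · rw [htriv g hg ho x hx]; exact hxM
    obtain ⟨q, hq, rfl⟩ := c.exists_pre hE.fn.le hx
    obtain ⟨q', hq', he⟩ := c.pull hE.fn.le hg hq
    have hgoal : (χ q.1 = 1 → χ q'.1 = 1) → g * c.f q * g⁻¹ ∈ M := fun h => by
      rw [he, hmem]; exact h ((hmem q).1 hxM)
    by_cases hb : c.Big E
    · by_cases hb2 : c.swap.Big E
      · obtain ⟨e1, e2⟩ := c.fix_zs hE hp hb hb2 hg ho hnc
        rw [c.fix_big_big hE hp hb hb2 hg ho e1 e2 _ hx]; exact hxM
      · exact hgoal (c.parity_big_four hE hp hb hb2 hg ho (by simp) hq he).1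
    obtain ⟨i, hi, hi'⟩ := c.four_of_small hE fun p hp' hr => by
      by_contra h; exact hb ⟨p, hp', hr, h⟩
    by_cases hci : χ (sr i) = 1
    · refine hgoal fun _ => ?_
      rcases four_cases (hi q' hq') with (e | e) | (e | e) <;> rw [e]
      · exact map_one χ
      · exact chi_z hk
      · exact hci
      · rw [map_mul, hci, one_mul]; exact chi_z hk
    have hcz : χ (sr i * zk k) ≠ 1 := by rw [map_mul, hχ, chi_z hk, mul_one]; exact hci
    have hunf : ∀ p : Dk k × Dk l, p.1 ∈ Four i → (∀ y, p.2 * y = y * p.2) →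
        IsConj (c.f (zk k, 1)) (c.f p) → p = (zk k, 1) := by
      intro p hp1 hp2 hconj
      rcases four_cases hp1 with e | e
      · refine hnc p (fun r => Prod.ext ?_ (hp2 r.2)) hconj
        show p.1 * r.1 = r.1 * p.1
        rcases e with e | e <;> rw [e] <;> simp [z_comm]
      · exfalso
        rcases e with e | e
        · exact hcl (sr i) (refl_sr i) hci p.2 hp2 (by rw [← e]; exact hconj)
        · exact hcl (sr i * zk k) ((refl_sr i).mul_rot rot_z) hcz p.2 hp2 (by rw [← e]; exact hconj)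
    by_cases hb2 : c.swap.Big E
    · -- four-group times large
      obtain ⟨t, ht, htr⟩ := c.swap.exists_refl hE
      obtain ⟨w, hw, hwr, hwne⟩ := id hb2
      have hcomm : ∀ a ∈ Four i, ∀ p, g * c.f (a, 1) * g⁻¹ = c.f p →
          p.1 ∈ Four i ∧ (p.2 = 1 ∨ p.2 = zk l) := by
        intro a ha p hpe
        have hpm : p ∈ c.pre E := (hpe ▸ (mem_normalizer_iff.1 hg _).1 (hi' a ha) : c.f p ∈ E)
        have hcen : ∀ r ∈ c.pre E, p * r = r * p := by
          intro r hr
          obtain ⟨r', hr', hre⟩ := c.pull hE.fn.le (inv_mem hg) hr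
          refine c.commute_of_pull hpe (show g * c.f r' * g⁻¹ = c.f r by rw [← hre]; group) ?_
          exact Prod.ext (four_comm ha (hi r' hr')) (by simp)
        exact ⟨hi p hpm, htr.commute_big hwr hwne (congrArg Prod.snd (hcen (t.2, t.1) ht))
          (congrArg Prod.snd (hcen (w.2, w.1) hw))⟩
      obtain ⟨p1, -, hp1⟩ := c.pull hE.fn.le hg (hi' _ (z_mem_four i))
      obtain ⟨h1, h1'⟩ := hcomm _ (z_mem_four i) p1 hp1
      rw [hunf p1 h1 (fun y => by rcases h1' with e | e <;> rw [e] <;> simp [z_comm])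
        (isConj_iff.2 ⟨g, hp1⟩)] at hp1
      have hz2 : g * c.f (1, zk l) * g⁻¹ = c.f (1, zk l) := c.swap.fix_z hE hp.swap hb2 hb hg
      have hone : g * c.f (1, 1) * g⁻¹ = c.f (1, 1) := by simp [← Prod.one_eq_mk]
      have hfixc : ∀ a b, (a = 1 ∨ a = zk k) → (b = 1 ∨ b = zk l) →
          g * c.f (a, b) * g⁻¹ = c.f (a, b) := by
        intro a b ha hb'
        rw [show ((a, b) : Dk k × Dk l) = (a, 1) * (1, b) by simp, c.conj_map_mul, map_mul]
        rcases ha with rfl | rfl <;> rcases hb' with rfl | rfl <;> simp only [hp1, hz2, hone]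
      obtain ⟨ps, -, hps⟩ := c.pull hE.fn.le hg (hi' _ (sr_mem_four i))
      obtain ⟨h2', h2''⟩ := hcomm _ (sr_mem_four i) ps hps
      have hsfix : g * c.f (sr i, 1) * g⁻¹ = c.f (sr i, 1) := by
        rcases four_cases h2' with e | e
        · exfalso
          have h3 := hfixc ps.1 ps.2 e h2''
          have h4 := congrArg Prod.fst (c.inj (mul_left_cancel (mul_right_cancel (h3.trans hps.symm))))
          rcases e with e | e <;> rw [e] at h4
          · exact (refl_sr i).ne_one h4.symm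
          · exact (refl_sr i).ne_z h4.symm
        · have hd : ps = ((sr i, (1 : Dk l)) : Dk k × Dk l) * (sr i * ps.1, ps.2) :=
            Prod.ext (by rw [Prod.fst_mul, ← mul_assoc, (refl_sr i).sq, one_mul]) (by simp)
          have hd1 : sr i * ps.1 = 1 ∨ sr i * ps.1 = zk k := by
            rcases e with e | e <;> rw [e]
            · exact Or.inl (refl_sr i).sq
            · right; rw [← mul_assoc, (refl_sr i).sq, one_mul]
          refine fix_of_shift ho (hfixc _ _ hd1 h2'') (by rw [hps, ← map_mul, ← hd]) (k := 1) ?_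
          rw [← map_pow, show (((sr i * ps.1, ps.2) : Dk k × Dk l)) ^ 2 ^ 1 = 1 from ?_, map_one]
          rcases hd1 with e1 | e1 <;> rcases h2'' with e2 | e2 <;>
            simp [e1, e2, pow_two, z_sq, ← Prod.one_eq_mk]
      have htr := c.swap.fix_big_four hE hp.swap hb2 hb hg ho (fun r hr => by
        show g * c.f (r.2, 1) * g⁻¹ = c.f (r.2, 1)
        rcases mem_four.1 (hi (r.2, r.1) hr) with e | e | e | e <;> simp only at e <;> rw [e]
        · exact hfixc _ _ (Or.inl rfl) (Or.inl rfl)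
        · exact hp1
        · exact hsfix
        · rw [show ((sr i * zk k, 1) : Dk k × Dk l) = (sr i, 1) * (zk k, 1) by simp,
            c.conj_map_mul, map_mul, hsfix, hp1])
      rw [htr _ hx]; exact hxM
    · -- two four-groups
      obtain ⟨j, hj, hj'⟩ := c.four_right hE hb2
      have hEq : E = c.quad i j :=
        c.eq_quad_of_pre hE.fn.le (fun p hp' => ⟨hi p hp', hj p hp'⟩) hi' hj'
      subst hEq
      obtain ⟨w, hw, hww⟩ := z_eq_sq hk
      have hz12 : ¬ IsConj (c.f (zk k, 1)) (c.f (1, zk l)) := fun h =>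
        z_ne_one (congrArg Prod.fst (hnc (1, zk l) (fun r => Prod.ext (by simp) (z_comm r.2)) h)).symm
      have hset := c.quad_setting hz12 hw hww i j
      have hx1 := c.tv_left hw hww i j
      have hσ := hx1.conj hg
      obtain ⟨p, hp1, hp2, hpe⟩ := exists_quad hσ.mem
      have hpconj : IsConj (c.f (zk k, 1)) (c.f p) := isConj_iff.2 ⟨g, hpe.symm⟩
      have hp2c : ∀ y, p.2 * y = y * p.2 := by
        rcases Nat.eq_zero_or_pos l with hl | hl
        · subst hl
          have hV : ∀ a b : Dk 0, a * b = b * a := by decide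
          exact hV p.2
        obtain ⟨v, hv, hvv⟩ := z_eq_sq hl
        have hx2 : TV (c.quad i j) (c.f (1, v)) (c.f (1, zk l)) := by
          have := c.swap.tv_left hv hvv j i
          rwa [c.swap_quad] at this
        have hfix := (hset.mixed hσ hx2 (isConj_iff.2 ⟨g, rfl⟩) hz12).2
        rw [← hpe, ← map_inv, ← map_mul, ← map_mul] at hfix
        have h3 : v * p.2 * v⁻¹ = p.2 := congrArg Prod.snd (c.inj hfix)
        rcases four_cases hp2 with e | e
        · intro y; rcases e with e | e <;> rw [e] <;> simp [z_comm]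
        · exfalso
          rcases e with e | e <;> rw [e] at h3
          · rw [hv.flip hvv] at h3
            exact z_ne_one (mul_eq_left.1 h3)
          · rw [← _root_.conj_mul, hv.flip hvv, conj_z] at h3
            exact z_ne_one (mul_eq_left.1 h3)
      rw [hunf p hp1 hp2c hpconj] at hpe
      rw [← hpe] at hσ
      have hact := hset.same_centre hσ hx1 (IsConj.refl _)
      refine hgoal fun hχq => ?_
      obtain ⟨hq1, hq2⟩ := mem_quad.1 hq
      obtain ⟨hq1', hq2'⟩ := mem_quad.1 hq'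
      have hfixed : c.f (w, 1) * c.f q * (c.f (w, 1))⁻¹ = c.f q := by
        rw [← map_inv, ← map_mul, ← map_mul]
        refine congrArg c.f (Prod.ext ?_ (by simp))
        show w * q.1 * w⁻¹ = q.1
        rcases four_cases hq1 with e | e
        · rcases e with e | e <;> rw [e]
          · simp
          · exact conj_z w
        · exfalso
          rcases e with e | e <;> rw [e] at hχq
          · exact hci hχq
          · exact hcz hχq
      have hfixed' : c.f (w, 1) * c.f q' * (c.f (w, 1))⁻¹ = c.f q' := by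
        rw [← hact (c.f q') hq', ← he]
        calc g * c.f (w, 1) * g⁻¹ * (g * c.f q * g⁻¹) * (g * c.f (w, 1) * g⁻¹)⁻¹ =
            g * (c.f (w, 1) * c.f q * (c.f (w, 1))⁻¹) * g⁻¹ := by group
          _ = _ := by rw [hfixed]
      rw [← map_inv, ← map_mul, ← map_mul] at hfixed'
      have h3 : w * q'.1 * w⁻¹ = q'.1 := congrArg Prod.fst (c.inj hfixed')
      rcases four_cases hq1' with e | e
      · rcases e with e | e <;> rw [e]
        · exact map_one χ
        · exact chi_z hk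
      · exfalso
        rcases e with e | e <;> rw [e] at h3
        · rw [hw.flip hww] at h3
          exact z_ne_one (mul_eq_left.1 h3)
        · rw [← _root_.conj_mul, hw.flip hww, conj_z] at h3
          exact z_ne_one (mul_eq_left.1 h3)
  obtain ⟨N, hN, hN2⟩ := index_two_of_parity S M hpar hinv (c.mem (sr 0, 1)) (by
    rw [hmem, hχ, hχ0]; exact z_ne_one)
  exact h2 N hN hN2

/-- Every class of reflections is fused to the central involution. -/
theorem exists_fused (hk : 1 ≤ k) (h2 : ∀ N : Subgroup G, N.Normal → N.index ≠ 2)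
    (hnc : ∀ p : Dk k × Dk l, (∀ r, p * r = r * p) →
      IsConj (c.f (zk k, 1)) (c.f p) → p = (zk k, 1)) (i : ZMod (2 ^ (k + 1))) :
    ∃ b : Dk l, (∀ y, b * y = y * b) ∧ IsConj (c.f (zk k, 1)) (c.f (sr i, b)) := by
  obtain ⟨b, hb, hconj⟩ := (c.shiftC i).exists_fused_zero hk h2 fun p hp h => by
    rw [(c.shiftC_z i).1, shiftC_apply] at h
    have hp1 : p.1 = 1 ∨ p.1 = zk k :=
      central_eq hk fun y => congrArg Prod.fst (hp (y, 1))
    have e : shift i p.1 = p.1 := by rcases hp1 with e | e <;> rw [e] <;> rfl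
    rw [e] at h
    exact hnc p hp h
  refine ⟨b, hb, ?_⟩
  rw [(c.shiftC_z i).1, shiftC_apply] at hconj
  rwa [show shift i (sr (0 : ZMod (2 ^ (k + 1)))) = sr i by show sr (0 + i) = sr i; rw [zero_add]]
    at hconj

end Coord

end Cfsg.Agent.ProductFusion.DD
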