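import Cfsg.Agent.GStructB.ProductFusion.DD.CaseB

/-!
Product fusion for a Sylow 2-subgroup that is the product of two dihedral groups.
-/

set_option autoImplicit false
set_option linter.style.haveILetI false
set_option linter.unusedSectionVars false

open Subgroup DihedralGroup

namespace Cfsg.Agent.ProductFusion.DD

universe u

variable {G : Type u} [Group G] [Finite G] {S : Sylow 2 G}

/-- Product fusion with dihedral factors. -/
def HasProductFusion (S : Sylow 2 G) : Prop :=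
  ∃ S₁ S₂ : Subgroup G, Cfsg.IsInternalDirectProduct S₁ S₂ (S : Subgroup G) ∧
    (∃ m, 2 ≤ m ∧ Nonempty (↥S₁ ≃* DihedralGroup m)) ∧ (∃ m, 2 ≤ m ∧ Nonempty (↥S₂ ≃* DihedralGroup m)) ∧
    Cfsg.IsStronglyClosed S₁ (S : Subgroup G) ∧ Cfsg.IsStronglyClosed S₂ (S : Subgroup G)

lemma hasProductFusion_of_coord {k l : ℕ} (c : Coord S k l)
    (h₁ : Cfsg.IsStronglyClosed (c.f.comp (MonoidHom.inl (Dk k) (Dk l))).range (S : Subgroup G))
    (h₂ : Cfsg.IsStronglyClosed (c.swap.f.comp (MonoidHom.inl (Dk l) (Dk k))).range (S : Subgroup G)) :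
    HasProductFusion S := by
  have hinj : ∀ {k l : ℕ} (c : Coord S k l),
      Function.Injective (c.f.comp (MonoidHom.inl (Dk k) (Dk l))) := fun c a b h =>
    congrArg Prod.fst (c.inj h)
  refine ⟨_, _, ⟨h₁.1, h₂.1, ?_, ?_, ?_⟩, ⟨2 ^ (k + 1), ?_, ⟨(MonoidHom.ofInjective (hinj c)).symm⟩⟩,
    ⟨2 ^ (l + 1), ?_, ⟨(MonoidHom.ofInjective (hinj c.swap)).symm⟩⟩, h₁, h₂⟩
  · rintro _ ⟨a, rfl⟩ _ ⟨b, rfl⟩
    show c.f (a, 1) * c.f (1, b) = c.f (1, b) * c.f (a, 1)
    rw [← map_mul, ← map_mul]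
    simp
  · refine (eq_bot_iff_forall _).2 fun x hx => ?_
    obtain ⟨⟨a, rfl⟩, b, hb⟩ := mem_inf.1 hx
    have := congrArg Prod.fst (c.inj (show c.f (1, b) = c.f (a, 1) from hb))
    change (1 : Dk k) = a at this
    subst this
    exact map_one _
  · refine le_antisymm (sup_le h₁.1 h₂.1) fun x hx => ?_
    obtain ⟨p, rfl⟩ := c.exists_of_mem hx
    rw [show p = ((p.1, 1) : Dk k × Dk l) * (1, p.2) by simp, map_mul]
    exact mul_mem (mem_sup_left ⟨p.1, rfl⟩) (mem_sup_right ⟨p.2, rfl⟩)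
  · exact le_self_pow₀ (by norm_num) (Nat.succ_ne_zero _)
  · exact le_self_pow₀ (by norm_num) (Nat.succ_ne_zero _)

lemma dihedral_two_power {D : Subgroup G} (hD : IsPGroup 2 D)
    (h : ∃ m : ℕ, 2 ≤ m ∧ Nonempty (↥D ≃* DihedralGroup m)) :
    ∃ k : ℕ, Nonempty (↥D ≃* Dk k) := by
  haveI : Fact (Nat.Prime 2) := ⟨Nat.prime_two⟩
  obtain ⟨m, hm, ⟨e⟩⟩ := h
  obtain ⟨a, ha⟩ := hD.exists_card_eq
  rw [Nat.card_congr e.toEquiv, DihedralGroup.nat_card] at ha
  obtain ⟨j, -, rfl⟩ := (Nat.dvd_prime_pow Nat.prime_two).1 (ha ▸ dvd_mul_left m 2)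
  cases j with
  | zero => norm_num at hm
  | succ k => exact ⟨k, ⟨e⟩⟩

/-- The fusion theorem for products of two dihedral groups. -/
theorem hasProductFusion (h2 : ∀ N : Subgroup G, N.Normal → N.index ≠ 2)
    (hS : ¬ IsMulCommutative ↥(S : Subgroup G)) (D₁ D₂ : Subgroup G)
    (hD : Cfsg.IsInternalDirectProduct D₁ D₂ (S : Subgroup G))
    (hD₁ : ∃ m : ℕ, 2 ≤ m ∧ Nonempty (↥D₁ ≃* DihedralGroup m))
    (hD₂ : ∃ m : ℕ, 2 ≤ m ∧ Nonempty (↥D₂ ≃* DihedralGroup m)) : HasProductFusion S := by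
  obtain ⟨h₁, h₂, hc, hd, hT⟩ := hD
  obtain ⟨k, ⟨e₁⟩⟩ := dihedral_two_power (S.2.to_le h₁) hD₁
  obtain ⟨l, ⟨e₂⟩⟩ := dihedral_two_power (S.2.to_le h₂) hD₂
  have hcomm : ∀ (a : Dk k) (b : Dk l),
      Commute ((D₁.subtype.comp e₁.symm.toMonoidHom) a) ((D₂.subtype.comp e₂.symm.toMonoidHom) b) :=
    fun a b => hc _ (e₁.symm a).2 _ (e₂.symm b).2
  let c : Coord S k l :=
    { f := MonoidHom.noncommCoprod _ _ hcomm
      inj := by
        refine (injective_iff_map_eq_one _).2 fun p hp => ?_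
        have h : ((e₁.symm p.1 : D₁) : G) * ((e₂.symm p.2 : D₂) : G) = 1 := hp
        have hm : ((e₁.symm p.1 : D₁) : G) ∈ D₁ ⊓ D₂ := mem_inf.2 ⟨(e₁.symm p.1).2, by
          rw [eq_inv_of_mul_eq_one_left h]; exact inv_mem (e₂.symm p.2).2⟩
        rw [hd, mem_bot] at hm
        rw [hm, one_mul] at h
        refine Prod.ext ?_ ?_
        · exact (map_eq_one_iff _ e₁.symm.injective).1 (Subtype.ext hm)
        · exact (map_eq_one_iff _ e₂.symm.injective).1 (Subtype.ext h)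
      range := by
        rw [MonoidHom.noncommCoprod_range, MonoidHom.range_comp, MonoidHom.range_comp,
          MonoidHom.range_eq_top.2 e₁.symm.surjective, MonoidHom.range_eq_top.2 e₂.symm.surjective,
          ← MonoidHom.range_eq_map, ← MonoidHom.range_eq_map, range_subtype, range_subtype, hT] }
  rcases Nat.eq_zero_or_pos l with hl | hl
  · rcases Nat.eq_zero_or_pos k with hk | hk
    · exfalso
      subst hk hl
      refine hS ⟨⟨fun x y => Subtype.ext ?_⟩⟩
      obtain ⟨p, hp⟩ := c.exists_of_mem x.2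
      obtain ⟨q, hq⟩ := c.exists_of_mem y.2
      show (x : G) * y = y * x
      rw [← hp, ← hq, ← map_mul, ← map_mul,
        show p * q = q * p from Prod.ext (v_comm _ _) (v_comm _ _)]
    · subst hl
      obtain ⟨c', a, b⟩ := c.stronglyClosed_four hk h2
      exact hasProductFusion_of_coord c' a b
  · rcases Nat.eq_zero_or_pos k with hk | hk
    · subst hk
      obtain ⟨c', a, b⟩ := c.swap.stronglyClosed_four hl h2
      exact hasProductFusion_of_coord c' a b
    · obtain ⟨c', a, b⟩ := c.stronglyClosed_big hk hl h2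
      exact hasProductFusion_of_coord c' a b

end Cfsg.Agent.ProductFusion.DD
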