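import Mathlib.GroupTheory.SpecificGroups.Dihedral
import Mathlib.GroupTheory.SpecificGroups.Cyclic
import Mathlib.Data.ZMod.Basic
import Mathlib.Tactic.LinearCombination
import Mathlib.Tactic.Ring

/-!
Dihedral 2-groups.
-/

set_option autoImplicit false
set_option linter.unusedSectionVars false

namespace Cfsg.Agent.ProductFusion.DD

open DihedralGroup

/-- The dihedral group of order `2 ^ (k + 2)`. -/
abbrev Dk (k : ℕ) := DihedralGroup (2 ^ (k + 1))

variable {k : ℕ}

instance : NeZero (2 ^ (k + 1)) := ⟨by positivity⟩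

/-- The central involution. -/
def zk (k : ℕ) : Dk k := r ((2 ^ k : ℕ) : ZMod (2 ^ (k + 1)))

/-- A rotation. -/
def Rot (a : Dk k) : Prop := ∃ i, a = r i

/-- A reflection. -/
def Refl (a : Dk k) : Prop := ∃ i, a = sr i

lemma rot_or_refl (a : Dk k) : Rot a ∨ Refl a := by
  cases a with
  | r i => exact Or.inl ⟨i, rfl⟩
  | sr i => exact Or.inr ⟨i, rfl⟩

lemma Rot.not_refl {a : Dk k} (h : Rot a) : ¬ Refl a := by
  rintro ⟨j, hj⟩; obtain ⟨i, rfl⟩ := h; simp at hj

lemma rot_of_not_refl {a : Dk k} (h : ¬ Refl a) : Rot a := (rot_or_refl a).resolve_right h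

lemma rot_one : Rot (1 : Dk k) := ⟨0, one_def⟩

lemma rot_z : Rot (zk k) := ⟨_, rfl⟩

lemma Rot.mul {a b : Dk k} (ha : Rot a) (hb : Rot b) : Rot (a * b) := by
  obtain ⟨i, rfl⟩ := ha; obtain ⟨j, rfl⟩ := hb; exact ⟨i + j, r_mul_r i j⟩

lemma Rot.inv {a : Dk k} (ha : Rot a) : Rot a⁻¹ := by
  obtain ⟨i, rfl⟩ := ha; exact ⟨-i, inv_r i⟩

lemma Rot.comm {a b : Dk k} (ha : Rot a) (hb : Rot b) : a * b = b * a := by
  obtain ⟨i, rfl⟩ := ha; obtain ⟨j, rfl⟩ := hb; simp [add_comm]

lemma Refl.mul {a b : Dk k} (ha : Refl a) (hb : Refl b) : Rot (a * b) := by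
  obtain ⟨i, rfl⟩ := ha; obtain ⟨j, rfl⟩ := hb; exact ⟨j - i, sr_mul_sr i j⟩

lemma Refl.mul_rot {a b : Dk k} (ha : Refl a) (hb : Rot b) : Refl (a * b) := by
  obtain ⟨i, rfl⟩ := ha; obtain ⟨j, rfl⟩ := hb; exact ⟨i + j, sr_mul_r i j⟩

lemma Rot.mul_refl {a b : Dk k} (ha : Rot a) (hb : Refl b) : Refl (a * b) := by
  obtain ⟨i, rfl⟩ := ha; obtain ⟨j, rfl⟩ := hb; exact ⟨j - i, r_mul_sr i j⟩

lemma Refl.sq {a : Dk k} (ha : Refl a) : a * a = 1 := by
  obtain ⟨i, rfl⟩ := ha; simp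

lemma Refl.inv {a : Dk k} (ha : Refl a) : a⁻¹ = a := inv_eq_of_mul_eq_one_right ha.sq

lemma Refl.conj_rot {a b : Dk k} (ha : Refl a) (hb : Rot b) : a * b * a⁻¹ = b⁻¹ := by
  rw [ha.inv]; obtain ⟨i, rfl⟩ := ha; obtain ⟨j, rfl⟩ := hb; simp

lemma Refl.conj_refl {a : Dk k} (ha : Refl a) (c : Dk k) : Refl (c * a * c⁻¹) := by
  rcases rot_or_refl c with hc | hc
  · exact (hc.mul_refl ha).mul_rot hc.inv
  · rw [hc.inv]; exact (hc.mul ha).mul_refl hc

lemma Rot.conj_rot {a : Dk k} (ha : Rot a) (c : Dk k) : Rot (c * a * c⁻¹) := by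
  rcases rot_or_refl c with hc | hc
  · rw [hc.comm ha, mul_inv_cancel_right]; exact ha
  · rw [hc.conj_rot ha]; exact ha.inv

lemma sq_rot (a : Dk k) : Rot (a * a) := by
  rcases rot_or_refl a with ha | ha
  · exact ha.mul ha
  · exact ha.mul ha

lemma natCast_double : ((2 ^ k : ℕ) : ZMod (2 ^ (k + 1))) + ((2 ^ k : ℕ) : ZMod (2 ^ (k + 1))) = 0 := by
  rw [← Nat.cast_add, show 2 ^ k + 2 ^ k = 2 ^ (k + 1) by ring, ZMod.natCast_self]

lemma z_sq : zk k * zk k = 1 := by
  rw [zk, r_mul_r, natCast_double, one_def]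

lemma z_ne_one : zk k ≠ 1 := by
  intro h
  rw [zk, one_def, r.injEq, ZMod.natCast_eq_zero_iff] at h
  have := Nat.le_of_dvd (by positivity) h
  rw [pow_succ] at this
  have : 0 < 2 ^ k := by positivity
  omega

lemma z_inv : (zk k)⁻¹ = zk k := inv_eq_of_mul_eq_one_right z_sq

lemma z_comm (a : Dk k) : zk k * a = a * zk k := by
  rcases rot_or_refl a with ha | ha
  · exact rot_z.comm ha
  · have h := ha.conj_rot (rot_z (k := k))
    rw [z_inv] at h
    exact (mul_inv_eq_iff_eq_mul.1 h).symm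

lemma Rot.eq_one_or_z {a : Dk k} (ha : Rot a) (h : a * a = 1) : a = 1 ∨ a = zk k := by
  obtain ⟨i, rfl⟩ := ha
  rw [r_mul_r, one_def, r.injEq] at h
  have h' : ((i.val + i.val : ℕ) : ZMod (2 ^ (k + 1))) = 0 := by
    push_cast; simpa using h
  rw [ZMod.natCast_eq_zero_iff] at h'
  obtain ⟨c, hc⟩ := h'
  have hlt := i.val_lt
  have hp : 0 < 2 ^ k := by positivity
  have hs : 2 ^ (k + 1) = 2 * 2 ^ k := by ring
  have hc2 : c < 2 := by
    by_contra hcc
    have : 2 ^ (k + 1) * 2 ≤ 2 ^ (k + 1) * c := Nat.mul_le_mul_left _ (by omega)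
    omega
  interval_cases c
  · left; rw [one_def, r.injEq, ← ZMod.natCast_zmod_val i, show i.val = 0 by omega, Nat.cast_zero]
  · right; rw [zk, r.injEq, ← ZMod.natCast_zmod_val i, show i.val = 2 ^ k by omega]

lemma Refl.commute_rot {a b : Dk k} (ha : Refl a) (hb : Rot b) (h : a * b = b * a) :
    b = 1 ∨ b = zk k := by
  refine hb.eq_one_or_z ?_
  have h1 := ha.conj_rot hb
  rw [h, mul_inv_cancel_right] at h1
  nth_rw 2 [h1]
  exact mul_inv_cancel b

lemma Refl.commute_refl {a b : Dk k} (ha : Refl a) (hb : Refl b) (h : a * b = b * a) :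
    b = a ∨ b = a * zk k := by
  have h2 : a * (a * b) = (a * b) * a := by
    rw [mul_assoc a b a, ← h]
  rcases ha.commute_rot (ha.mul hb) h2 with h3 | h3
  · left; rw [← mul_right_inj a, ha.sq]; exact h3
  · right; rw [← h3, ← mul_assoc, ha.sq, one_mul]

lemma Refl.commute_cases {a b : Dk k} (ha : Refl a) (h : a * b = b * a) :
    b = 1 ∨ b = zk k ∨ b = a ∨ b = a * zk k := by
  rcases rot_or_refl b with hb | hb
  · rcases ha.commute_rot hb h with e | e
    · exact Or.inl e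
    · exact Or.inr (Or.inl e)
  · exact Or.inr (Or.inr (ha.commute_refl hb h))

lemma refl_sr (i : ZMod (2 ^ (k + 1))) : Refl (sr i) := ⟨i, rfl⟩

lemma Refl.ne_one {a : Dk k} (ha : Refl a) : a ≠ 1 := fun e => rot_one.not_refl (e ▸ ha)

lemma Refl.ne_z {a : Dk k} (ha : Refl a) : a ≠ zk k := fun e => rot_z.not_refl (e ▸ ha)

/-- For `1 ≤ k` the central involution is a square. -/
lemma z_eq_sq (hk : 1 ≤ k) : ∃ w : Dk k, Rot w ∧ w * w = zk k := by
  refine ⟨r ((2 ^ (k - 1) : ℕ) : ZMod (2 ^ (k + 1))), ⟨_, rfl⟩, ?_⟩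
  rw [r_mul_r, zk, r.injEq, ← Nat.cast_add,
    show 2 ^ (k - 1) + 2 ^ (k - 1) = 2 ^ k by rw [← two_mul, ← pow_succ', Nat.sub_add_cancel hk]]

lemma central_eq (hk : 1 ≤ k) {a : Dk k} (h : ∀ y, a * y = y * a) : a = 1 ∨ a = zk k := by
  rcases rot_or_refl a with ha | ha
  · exact (refl_sr (0 : ZMod (2 ^ (k + 1)))).commute_rot ha (h _).symm
  · exfalso
    obtain ⟨w, hw, hwz⟩ := z_eq_sq hk
    rcases ha.commute_rot hw (h w) with e | e
    · rw [e, one_mul] at hwz; exact z_ne_one hwz.symm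
    · rw [e, z_sq] at hwz; exact z_ne_one hwz.symm

/-- A commutator is the square of a rotation made from the two elements. -/
lemma comm_eq_sq (a b : Dk k) :
    ∃ c ∈ Subgroup.closure ({a, b} : Set (Dk k)), a * b * a⁻¹ * b⁻¹ = c * c := by
  have hmem : a ∈ Subgroup.closure ({a, b} : Set (Dk k)) := Subgroup.subset_closure (by simp)
  have hbmem : b ∈ Subgroup.closure ({a, b} : Set (Dk k)) := Subgroup.subset_closure (by simp)
  rcases rot_or_refl a with ha | ha <;> rcases rot_or_refl b with hb | hb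
  · exact ⟨1, one_mem _, by rw [ha.comm hb]; group⟩
  · refine ⟨a, hmem, ?_⟩
    rw [mul_assoc a b, mul_assoc a, hb.conj_rot ha.inv, inv_inv]
  · refine ⟨b⁻¹, inv_mem hbmem, ?_⟩
    rw [ha.conj_rot hb]
  · refine ⟨a * b, mul_mem hmem hbmem, ?_⟩
    rw [ha.inv, hb.inv, mul_assoc (a * b)]

lemma orderOf_r_one' : orderOf (r 1 : Dk k) = 2 ^ (k + 1) := orderOf_r_one

lemma Rot.mem_zpowers_r {a : Dk k} (ha : Rot a) : a ∈ Subgroup.zpowers (r 1 : Dk k) := by
  obtain ⟨i, rfl⟩ := ha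
  exact ⟨i.val, by show (r 1 : Dk k) ^ (i.val : ℤ) = r i; rw [zpow_natCast, r_one_pow, ZMod.natCast_zmod_val]⟩

/-- The rotations form a cyclic group. -/
lemma Rot.mem_zpowers {a d : Dk k} (ha : Rot a) (hd : Rot d) (h : orderOf a ∣ orderOf d) :
    a ∈ Subgroup.zpowers d := by
  classical
  set C := Subgroup.zpowers (r 1 : Dk k) with hC
  haveI : IsCyclic C := inferInstance
  let a' : C := ⟨a, ha.mem_zpowers_r⟩
  let d' : C := ⟨d, hd.mem_zpowers_r⟩
  have hh : orderOf a' ∣ orderOf d' := by rwa [← Subgroup.orderOf_coe, ← Subgroup.orderOf_coe]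
  have hmem : a' ∈ Subgroup.zpowers d' := by
    haveI : Fintype C := Fintype.ofFinite C
    by_contra hne
    set T := (Subgroup.zpowers d' : Set C).toFinset with hT
    have hsub : insert a' T ⊆ Finset.univ.filter (fun x : C => x ^ orderOf d' = 1) := by
      intro x hx
      rw [Finset.mem_filter]
      refine ⟨Finset.mem_univ _, ?_⟩
      rcases Finset.mem_insert.1 hx with rfl | hx
      · exact orderOf_dvd_iff_pow_eq_one.1 hh
      · obtain ⟨j, rfl⟩ := Subgroup.mem_zpowers_iff.1 (Set.mem_toFinset.1 hx)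
        rw [← zpow_natCast, ← zpow_mul, mul_comm, zpow_mul, zpow_natCast, pow_orderOf_eq_one,
          one_zpow]
    have h1 := (Finset.card_le_card hsub).trans (IsCyclic.card_pow_eq_one_le (orderOf_pos d'))
    rw [Finset.card_insert_of_notMem (fun h => hne (Set.mem_toFinset.1 h)),
      ← Set.ncard_eq_toFinset_card', ← Nat.card_coe_set_eq] at h1
    have h2 := Nat.card_zpowers d'
    simp only [SetLike.coe_sort_coe] at h1
    omega
  obtain ⟨j, hj⟩ := hmem
  exact ⟨j, congrArg Subtype.val hj⟩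

/-- Any two reflections are conjugate up to the shift by one. -/
lemma exists_shift (i i₀ : ZMod (2 ^ (k + 1))) :
    ∃ c : Dk k, c * sr i₀ * c⁻¹ = sr i ∨ c * sr (i₀ + 1) * c⁻¹ = sr i := by
  obtain ⟨e, he⟩ : ∃ e : ℕ, (e : ZMod (2 ^ (k + 1))) = i₀ - i := ⟨_, ZMod.natCast_zmod_val _⟩
  rcases Nat.even_or_odd' e with ⟨j, hj | hj⟩
  · refine ⟨r (j : ZMod (2 ^ (k + 1))), Or.inl ?_⟩
    rw [inv_r, r_mul_sr, sr_mul_r, sr.injEq]
    rw [hj] at he; push_cast at he; linear_combination -he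
  · refine ⟨r ((j + 1 : ℕ) : ZMod (2 ^ (k + 1))), Or.inr ?_⟩
    rw [inv_r, r_mul_sr, sr_mul_r, sr.injEq]
    rw [hj] at he; push_cast at he ⊢; linear_combination -he

/-- The homomorphism to an elementary abelian 2-group with given values on two reflections. -/
def dihLift {M : Type*} [CommGroup M] (a b : M) (ha : a * a = 1) (hb : b * b = 1) : Dk k →* M :=
  have hc : (a * b) * (a * b) = 1 := by rw [mul_mul_mul_comm, ha, hb, one_mul]
  have hp : ∀ i j : ZMod (2 ^ (k + 1)), (a * b) ^ (i + j).val = (a * b) ^ i.val * (a * b) ^ j.val :=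
    fun i j => by
      rw [← pow_add, ZMod.val_add]
      exact (pow_eq_pow_mod _ (by rw [pow_succ', pow_mul, sq, hc, one_pow])).symm
  have hn : ∀ i : ZMod (2 ^ (k + 1)), (a * b) ^ (-i).val = (a * b) ^ i.val := fun i => by
    have h1 := hp (-i) i
    rw [neg_add_cancel, ZMod.val_zero, pow_zero] at h1
    rw [← mul_left_inj ((a * b) ^ i.val), ← h1, ← mul_pow, hc, one_pow]
  MonoidHom.mk' (fun x => match x with
    | r i => (a * b) ^ i.val
    | sr i => a * (a * b) ^ i.val) fun x y => by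
      cases x <;> cases y <;>
        simp only [r_mul_r, r_mul_sr, sr_mul_r, sr_mul_sr, sub_eq_add_neg, hp, hn]
      · rw [← mul_assoc, mul_comm]
      · rw [mul_assoc]
      · rw [mul_mul_mul_comm, ha, one_mul, mul_comm]

lemma dihLift_sr {M : Type*} [CommGroup M] (a b : M) (ha : a * a = 1) (hb : b * b = 1) :
    dihLift (k := k) a b ha hb (sr 0) = a ∧ dihLift (k := k) a b ha hb (sr 1) = b := by
  constructor
  · show a * (a * b) ^ (0 : ZMod (2 ^ (k + 1))).val = a
    simp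
  · show a * (a * b) ^ (1 : ZMod (2 ^ (k + 1))).val = b
    haveI : Fact (1 < 2 ^ (k + 1)) := ⟨Nat.one_lt_two_pow (Nat.succ_ne_zero k)⟩
    rw [ZMod.val_one, pow_one, ← mul_assoc, ha, one_mul]

/-- The outer automorphism shifting the reflections. -/
def shift (t : ZMod (2 ^ (k + 1))) : Dk k ≃* Dk k where
  toFun x := match x with
    | r i => r i
    | sr i => sr (i + t)
  invFun x := match x with
    | r i => r i
    | sr i => sr (i - t)
  left_inv x := by cases x <;> simp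
  right_inv x := by cases x <;> simp
  map_mul' x y := by cases x <;> cases y <;> simp <;> ring

/-- The four-group of a reflection. -/
def Four (i : ZMod (2 ^ (k + 1))) : Subgroup (Dk k) := Subgroup.centralizer {sr i}

lemma mem_four {i : ZMod (2 ^ (k + 1))} {x : Dk k} :
    x ∈ Four i ↔ x = 1 ∨ x = zk k ∨ x = sr i ∨ x = sr i * zk k := by
  rw [Four, Subgroup.mem_centralizer_singleton_iff]
  constructor
  · exact fun h => (refl_sr i).commute_cases h.symm
  · rintro (rfl | rfl | rfl | rfl)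
    · simp
    · exact z_comm _
    · rfl
    · rw [mul_assoc, z_comm]

lemma z_mem_four (i : ZMod (2 ^ (k + 1))) : zk k ∈ Four i := mem_four.2 (Or.inr (Or.inl rfl))

lemma sr_mem_four (i : ZMod (2 ^ (k + 1))) : sr i ∈ Four i := mem_four.2 (Or.inr (Or.inr (Or.inl rfl)))

lemma four_sq {i : ZMod (2 ^ (k + 1))} {x : Dk k} (hx : x ∈ Four i) : x * x = 1 := by
  rcases mem_four.1 hx with rfl | rfl | rfl | rfl
  · simp
  · exact z_sq
  · simp
  · exact ((refl_sr i).mul_rot rot_z).sq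

lemma four_comm {i : ZMod (2 ^ (k + 1))} {x y : Dk k} (hx : x ∈ Four i) (hy : y ∈ Four i) :
    x * y = y * x := by
  have h := four_sq (mul_mem hx hy)
  rw [← inv_eq_of_mul_eq_one_right h, mul_inv_rev, inv_eq_of_mul_eq_one_right (four_sq hx),
    inv_eq_of_mul_eq_one_right (four_sq hy)]

lemma four_shift (t i : ZMod (2 ^ (k + 1))) :
    (Four i).map (shift t).toMonoidHom = Four (i + t) := by
  ext x
  constructor
  · rintro ⟨y, hy, rfl⟩
    rw [Four, Subgroup.mem_centralizer_singleton_iff]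
    have h := Subgroup.mem_centralizer_singleton_iff.1 hy
    have h2 := congrArg (shift t) h
    rw [map_mul, map_mul] at h2
    exact h2
  · intro hx
    refine ⟨(shift t).symm x, ?_, by simp⟩
    show (shift t).symm x ∈ Four i
    rw [Four, Subgroup.mem_centralizer_singleton_iff] at hx ⊢
    apply (shift t).injective
    rw [map_mul, map_mul, MulEquiv.apply_symm_apply]
    exact hx

/-- The homomorphism into the centre with given values on two reflections. -/
def chi (l : ℕ) (a b : Bool) : Dk k →* Dk l :=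
  (Subgroup.zpowers (zk l)).subtype.comp
    (@dihLift k (Subgroup.zpowers (zk l)) (IsCyclic.commGroup)
      (if a then ⟨zk l, Subgroup.mem_zpowers _⟩ else 1) (if b then ⟨zk l, Subgroup.mem_zpowers _⟩ else 1)
      (by cases a <;> simp [Subtype.ext_iff, z_sq]) (by cases b <;> simp [Subtype.ext_iff, z_sq]))

lemma mem_zpowers_z {l : ℕ} {x : Dk l} (hx : x ∈ Subgroup.zpowers (zk l)) : x = 1 ∨ x = zk l := by
  obtain ⟨j, rfl⟩ := Subgroup.mem_zpowers_iff.1 hx
  rcases Int.even_or_odd' j with ⟨c, rfl | rfl⟩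
  · left; rw [zpow_mul, zpow_two, z_sq, one_zpow]
  · right; rw [zpow_add, zpow_mul, zpow_two, z_sq, one_zpow, one_mul, zpow_one]

lemma chi_mem {l : ℕ} {a b : Bool} (x : Dk k) : chi l a b x = 1 ∨ chi l a b x = zk l :=
  mem_zpowers_z (SetLike.coe_mem _)

lemma chi_sr {l : ℕ} (a b : Bool) :
    chi (k := k) l a b (sr 0) = (if a then zk l else 1) ∧
      chi (k := k) l a b (sr 1) = (if b then zk l else 1) := by
  letI : CommGroup (Subgroup.zpowers (zk l)) := IsCyclic.commGroup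
  obtain ⟨h0, h1⟩ := dihLift_sr (k := k)
    (if a then (⟨zk l, Subgroup.mem_zpowers _⟩ : Subgroup.zpowers (zk l)) else 1)
    (if b then ⟨zk l, Subgroup.mem_zpowers _⟩ else 1)
    (by cases a <;> simp [Subtype.ext_iff, z_sq]) (by cases b <;> simp [Subtype.ext_iff, z_sq])
  constructor
  · have := congrArg Subtype.val h0
    cases a <;> simpa [chi] using this
  · have := congrArg Subtype.val h1
    cases b <;> simpa [chi] using this

/-- A homomorphism into the centre is trivial on squares. -/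
lemma chi_sq {l : ℕ} {a b : Bool} (x : Dk k) : chi l a b (x * x) = 1 := by
  rw [map_mul]
  rcases chi_mem (a := a) (b := b) (l := l) x with h | h <;> rw [h] <;> simp [z_sq]

lemma chi_z {l : ℕ} {a b : Bool} (hk : 1 ≤ k) : chi (k := k) l a b (zk k) = 1 := by
  obtain ⟨w, -, hw⟩ := z_eq_sq hk
  rw [← hw, chi_sq]

/-- Parity of a rotation by its order. -/
lemma chi_rot {l : ℕ} {a b : Bool} (hab : a ≠ b) {x : Dk k} (hx : Rot x) :
    chi l a b x = 1 ↔ x ^ 2 ^ k = 1 := by
  obtain ⟨i, rfl⟩ := hx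
  obtain ⟨j, rfl⟩ : ∃ j : ℕ, i = (j : ZMod (2 ^ (k + 1))) := ⟨i.val, (ZMod.natCast_zmod_val i).symm⟩
  have h1 : chi (k := k) l a b (r 1) = zk l := by
    obtain ⟨ha, hb⟩ := chi_sr (k := k) (l := l) a b
    rw [show (r 1 : Dk k) = sr 0 * sr 1 by simp, map_mul, ha, hb]
    cases a <;> cases b <;> simp_all
  have h2 : (r 1 : Dk k) ^ 2 ^ k = zk k := r_one_pow _
  rw [← r_one_pow, map_pow, h1, ← pow_mul, mul_comm, pow_mul, h2]
  rcases Nat.even_or_odd' j with ⟨c, rfl | rfl⟩
  · simp [pow_mul, pow_two, z_sq]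
  · simp [pow_succ, pow_mul, z_sq, z_ne_one]

end Cfsg.Agent.ProductFusion.DD
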