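import Cfsg.Agent.GStructB.ProductFusion.DD.Tools
import Cfsg.Agent.GStructB.ProductFusion.DD.Model

/-!
Centric radical subgroups of a product of two dihedral 2-groups.
-/

set_option autoImplicit false
set_option linter.style.haveILetI false
set_option linter.unusedSectionVars false

open Subgroup

namespace Cfsg.Agent.ProductFusion.DD

open Cfsg.Agent.Techniques.Alperin.Radical

universe u

variable {G : Type u} [Group G] [Finite G]

/-- Coordinates on a Sylow 2-subgroup. -/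
structure Coord (S : Sylow 2 G) (k l : ℕ) where
  f : Dk k × Dk l →* G
  inj : Function.Injective f
  range : f.range = (S : Subgroup G)

variable {S : Sylow 2 G} {k l : ℕ}

namespace Coord

variable (c : Coord S k l)

lemma mem (p : Dk k × Dk l) : c.f p ∈ (S : Subgroup G) := c.range.le ⟨p, rfl⟩

lemma exists_of_mem {x : G} (hx : x ∈ (S : Subgroup G)) : ∃ p, c.f p = x := c.range.ge hx

/-- Exchange of the factors. -/
def swap : Coord S l k where
  f := c.f.comp (MulEquiv.prodComm (M := Dk l) (N := Dk k)).toMonoidHom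
  inj := fun a b h => MulEquiv.prodComm.injective (c.inj h)
  range := by rw [MonoidHom.range_comp, MonoidHom.range_eq_top.2 MulEquiv.prodComm.surjective,
    ← MonoidHom.range_eq_map, c.range]

lemma swap_apply (p : Dk l × Dk k) : c.swap.f p = c.f (p.2, p.1) := rfl

/-- The preimage of a subgroup. -/
def pre (E : Subgroup G) : Subgroup (Dk k × Dk l) := E.comap c.f

variable {E : Subgroup G}

lemma mem_pre {p : Dk k × Dk l} : p ∈ c.pre E ↔ c.f p ∈ E := Iff.rfl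

lemma mem_pre_swap {p : Dk l × Dk k} : p ∈ c.swap.pre E ↔ (p.2, p.1) ∈ c.pre E := Iff.rfl

lemma exists_pre (hE : E ≤ (S : Subgroup G)) {x : G} (hx : x ∈ E) : ∃ p ∈ c.pre E, c.f p = x := by
  obtain ⟨p, rfl⟩ := c.exists_of_mem (hE hx)
  exact ⟨p, hx, rfl⟩

lemma pull (hE : E ≤ (S : Subgroup G)) {g : G} (hg : g ∈ normalizer (E : Set G))
    {p : Dk k × Dk l} (hp : p ∈ c.pre E) : ∃ q ∈ c.pre E, g * c.f p * g⁻¹ = c.f q := by
  obtain ⟨q, hq, he⟩ := c.exists_pre hE ((mem_normalizer_iff.1 hg _).1 hp)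
  exact ⟨q, hq, he.symm⟩

lemma conj_map_mul (g : G) (p q : Dk k × Dk l) :
    g * c.f (p * q) * g⁻¹ = g * c.f p * g⁻¹ * (g * c.f q * g⁻¹) := by
  rw [map_mul]; group

lemma sq_of_pull {g : G} {p q : Dk k × Dk l} (he : g * c.f p * g⁻¹ = c.f q) :
    g * c.f (p * p) * g⁻¹ = c.f (q * q) := by
  rw [c.conj_map_mul, he, map_mul]

lemma pow_of_pull {g : G} {p q : Dk k × Dk l} (he : g * c.f p * g⁻¹ = c.f q) (n : ℕ) :
    g * c.f (p ^ n) * g⁻¹ = c.f (q ^ n) := by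
  rw [map_pow, ← conj_pow, he, map_pow]

lemma ne_one_of_pull {g : G} {p q : Dk k × Dk l} (he : g * c.f p * g⁻¹ = c.f q) (hp : p ≠ 1) :
    q ≠ 1 := by
  rintro rfl
  rw [map_one, conj_eq_one_iff] at he
  exact hp (c.inj (he.trans (map_one _).symm))

variable (hE : IsCR 2 (S : Subgroup G) E)

include hE

lemma centric {p : Dk k × Dk l} (h : ∀ q ∈ c.pre E, p * q = q * p) : p ∈ c.pre E := by
  refine hE.centric (mem_inf.2 ⟨c.mem p, mem_centralizer_iff.2 fun x hx => ?_⟩)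
  obtain ⟨q, hq, rfl⟩ := c.exists_pre hE.fn.le hx
  rw [← map_mul, ← map_mul, h q hq]

lemma z_left_mem : (zk k, (1 : Dk l)) ∈ c.pre E :=
  c.centric hE fun q _ => Prod.ext (z_comm q.1) (by simp)

lemma z_right_mem : ((1 : Dk k), zk l) ∈ c.pre E :=
  c.centric hE fun q _ => Prod.ext (by simp) (z_comm q.2)

/-- The subgroup generated by the squares. -/
abbrev Sq (H : Subgroup (Dk k × Dk l)) : Subgroup (Dk k × Dk l) :=
  closure {y | ∃ h ∈ H, h * h = y}

omit hE in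
lemma sq_mem_Sq {H : Subgroup (Dk k × Dk l)} {h : Dk k × Dk l} (hh : h ∈ H) : h * h ∈ Sq H :=
  Subgroup.subset_closure ⟨h, hh, rfl⟩

omit hE in
lemma Sq_le (H : Subgroup (Dk k × Dk l)) : Sq H ≤ H := by
  rw [closure_le]
  rintro _ ⟨h, hh, rfl⟩
  exact mul_mem hh hh

lemma mem_of_comm {p : Dk k × Dk l}
    (h : ∀ q ∈ c.pre E, p * q * p⁻¹ * q⁻¹ ∈ Sq (c.pre E)) : p ∈ c.pre E := by
  have hS : Sq (c.pre E) ≤ ((frattini ↥E).map E.subtype).comap c.f := by
    rw [closure_le]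
    rintro _ ⟨q, hq, rfl⟩
    show c.f (q * q) ∈ (frattini ↥E).map E.subtype
    rw [map_mul]
    exact sq_mem (S.2.to_le hE.fn.le) hq
  refine mem_of_trivial_mod_frattini hE (c.mem p) ?_ fun x hx => ?_
  · refine mem_normalizer_iff_conj_image_eq.2 (Set.eq_of_subset_of_ncard_le ?_ (by
      rw [Set.ncard_image_of_injective _ (MulAut.conj (c.f p)).injective]) (Set.toFinite _))
    rintro _ ⟨x, hx, rfl⟩
    obtain ⟨q, hq, rfl⟩ := c.exists_pre hE.fn.le hx
    have h1 := mul_mem (Sq_le _ (h q hq)) hq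
    rw [inv_mul_cancel_right] at h1
    show c.f p * c.f q * (c.f p)⁻¹ ∈ E
    rw [← map_mul, ← map_inv, ← map_mul]
    exact h1
  · obtain ⟨q, hq, rfl⟩ := c.exists_pre hE.fn.le hx
    have := hS (h q hq)
    rwa [mem_comap, map_mul, map_mul, map_mul, map_inv, map_inv] at this

/-- No projection consists of rotations only. -/
lemma exists_refl : ∃ q ∈ c.pre E, Refl q.1 := by
  by_contra hno
  have hrot : ∀ q ∈ c.pre E, Rot q.1 := fun q hq => rot_of_not_refl fun h => hno ⟨q, hq, h⟩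
  have hleft : ∀ q ∈ c.pre E, (q.1, (1 : Dk l)) ∈ c.pre E := fun q hq =>
    c.centric hE fun w hw => Prod.ext ((hrot q hq).comm (hrot w hw)) (by simp)
  have := c.mem_of_comm hE (p := (DihedralGroup.sr 0, 1)) fun q hq => by
    have h1 : Refl (DihedralGroup.sr (0 : ZMod (2 ^ (k + 1)))) := refl_sr 0
    have e : (DihedralGroup.sr (0 : ZMod (2 ^ (k + 1))), (1 : Dk l)) * q *
        (DihedralGroup.sr (0 : ZMod (2 ^ (k + 1))), (1 : Dk l))⁻¹ * q⁻¹ =
        ((q.1, (1 : Dk l)) * (q.1, 1))⁻¹ := by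
      refine Prod.ext ?_ (by simp)
      show _ * q.1 * _⁻¹ * q.1⁻¹ = (q.1 * q.1)⁻¹
      rw [h1.conj_rot (hrot q hq), mul_inv_rev]
    rw [e]
    exact inv_mem (sq_mem_Sq (hleft q hq))
  exact hno ⟨_, this, refl_sr 0⟩

/-- A projection of exponent two is a four-group. -/
lemma four_of_small (hsmall : ∀ q ∈ c.pre E, Rot q.1 → q.1 * q.1 = 1) :
    ∃ i, (∀ q ∈ c.pre E, q.1 ∈ Four i) ∧ ∀ a ∈ Four i, (a, (1 : Dk l)) ∈ c.pre E := by
  obtain ⟨p, hp, i, hi⟩ := c.exists_refl hE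
  have hU : ∀ q ∈ c.pre E, q.1 ∈ Four i := by
    intro q hq
    rcases rot_or_refl q.1 with hr | hr
    · rcases hr.eq_one_or_z (hsmall q hq hr) with e | e <;> rw [e]
      · exact one_mem _
      · exact z_mem_four i
    · have h1 := hsmall _ (mul_mem hp hq) (by rw [Prod.fst_mul, hi]; exact (refl_sr i).mul hr)
      rw [Prod.fst_mul, hi] at h1
      refine Subgroup.mem_centralizer_singleton_iff.2 ?_
      calc q.1 * DihedralGroup.sr i
          = (DihedralGroup.sr i * q.1)⁻¹ := by rw [mul_inv_rev, hr.inv, (refl_sr i).inv]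
        _ = _ := inv_eq_of_mul_eq_one_right h1
  exact ⟨i, hU, fun a ha => c.centric hE fun q hq =>
    Prod.ext (four_comm ha (hU q hq)) (by simp)⟩

omit hE

/-- The subgroup is the product of its projections. -/
def IsProd (c : Coord S k l) (E : Subgroup G) : Prop :=
  ∀ q ∈ c.pre E, (q.1, (1 : Dk l)) ∈ c.pre E

/-- The first projection contains a rotation of order at least four. -/
def Big (c : Coord S k l) (E : Subgroup G) : Prop :=
  ∃ q ∈ c.pre E, Rot q.1 ∧ q.1 * q.1 ≠ 1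

lemma IsProd.right {c : Coord S k l} (h : c.IsProd E) {q : Dk k × Dk l} (hq : q ∈ c.pre E) :
    ((1 : Dk k), q.2) ∈ c.pre E := by
  have := mul_mem (inv_mem (h q hq)) hq
  convert this using 1
  exact Prod.ext (by simp) (by simp)

lemma IsProd.swap {c : Coord S k l} (h : c.IsProd E) : c.swap.IsProd E := fun q hq =>
  mem_pre_swap _ |>.2 (h.right hq)

lemma isProd_of_swap {c : Coord S k l} (h : c.swap.IsProd E) : c.IsProd E := fun q hq =>
  h.right (q := (q.2, q.1)) hq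

include hE

lemma isProd_of_small (hs : ¬ c.Big E) : c.IsProd E := by
  obtain ⟨i, hU, hmem⟩ := c.four_of_small hE fun q hq hr => by
    by_contra h; exact hs ⟨q, hq, hr, h⟩
  exact fun q hq => hmem _ (hU q hq)

lemma isProd_of_sq
    (h : ∀ q ∈ c.pre E, (q.1 * q.1, (1 : Dk l)) ∈ Sq (c.pre E)) : c.IsProd E := by
  intro q hq
  refine c.mem_of_comm hE fun w hw => ?_
  obtain ⟨d, hd, hdd⟩ := comm_eq_sq q.1 w.1
  have hmem : d ∈ (c.pre E).map (MonoidHom.fst (Dk k) (Dk l)) := by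
    refine (closure_le _).2 ?_ hd
    rintro x (rfl | rfl)
    · exact ⟨q, hq, rfl⟩
    · exact ⟨w, hw, rfl⟩
  obtain ⟨v, hv, rfl⟩ := hmem
  have e : (q.1, (1 : Dk l)) * w * (q.1, 1)⁻¹ * w⁻¹ = (v.1 * v.1, 1) :=
    Prod.ext hdd (by simp)
  rw [e]
  exact h v hv

/-- One mixed element forces a product. -/
lemma isProd_of_mixed {p : Dk k × Dk l} (hp : p ∈ c.pre E) (h1 : Rot p.1) (h2 : Refl p.2) :
    c.IsProd E := by
  refine c.isProd_of_sq hE fun q hq => ?_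
  rcases rot_or_refl q.2 with hr | hr
  swap
  · rw [← hr.sq]; exact sq_mem_Sq hq
  rcases rot_or_refl q.1 with hu | hu
  swap
  · rw [hu.sq]; exact one_mem _
  have e : ((q.1 * q.1, (1 : Dk l)) : Dk k × Dk l) =
      ((q * p) * (q * p)) * (p * p)⁻¹ := by
    refine Prod.ext ?_ ?_
    · show q.1 * q.1 = q.1 * p.1 * (q.1 * p.1) * (p.1 * p.1)⁻¹
      rw [mul_inv_rev, ← mul_assoc (q.1 * p.1) q.1 p.1, mul_assoc q.1 p.1 q.1, h1.comm hu]
      group
    · show (1 : Dk l) = q.2 * p.2 * (q.2 * p.2) * (p.2 * p.2)⁻¹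
      rw [(hr.mul_refl h2).sq, h2.sq]; simp
  rw [e]
  exact mul_mem (sq_mem_Sq (mul_mem hq hp)) (inv_mem (sq_mem_Sq hp))

lemma isProd_of_rot_prod (hnm : ∀ q ∈ c.pre E, (Rot q.1 ↔ Rot q.2))
    (h : ∀ q ∈ c.pre E, Rot q.1 → (q.1, (1 : Dk l)) ∈ c.pre E) : c.IsProd E := by
  refine c.isProd_of_sq hE fun q hq => ?_
  rcases rot_or_refl q.1 with hu | hu
  · have := sq_mem_Sq (h q hq hu)
    rwa [Prod.mk_mul_mk, one_mul] at this
  · rw [hu.sq]; exact one_mem _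

/-- Away from products, elements of odd order act trivially. -/
theorem shape : c.IsProd E ∨
    ∀ g ∈ normalizer (E : Set G), Odd (orderOf g) → ∀ x ∈ E, g * x * g⁻¹ = x := by
  classical
  haveI : Fact (Nat.Prime 2) := ⟨Nat.prime_two⟩
  by_cases hb : c.Big E
  swap
  · exact Or.inl (c.isProd_of_small hE hb)
  by_cases hb2 : c.swap.Big E
  swap
  · exact Or.inl (isProd_of_swap (c.swap.isProd_of_small hE hb2))
  by_cases hm1 : ∃ p ∈ c.pre E, Rot p.1 ∧ Refl p.2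
  · obtain ⟨p, hp, h1, h2⟩ := hm1
    exact Or.inl (c.isProd_of_mixed hE hp h1 h2)
  by_cases hm2 : ∃ p ∈ c.pre E, Refl p.1 ∧ Rot p.2
  · obtain ⟨p, hp, h1, h2⟩ := hm2
    exact Or.inl (isProd_of_swap (c.swap.isProd_of_mixed hE (p := (p.2, p.1)) hp h2 h1))
  have hnm : ∀ q ∈ c.pre E, (Rot q.1 ↔ Rot q.2) := fun q hq =>
    ⟨fun h => rot_of_not_refl fun h' => hm1 ⟨q, hq, h, h'⟩,
     fun h => rot_of_not_refl fun h' => hm2 ⟨q, hq, h', h⟩⟩
  -- the exponent of the abelian subgroup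
  have hex : ∃ n : ℕ, ∀ q ∈ c.pre E, Rot q.1 → q ^ 2 ^ (n + 1) = 1 := by
    refine ⟨k + l + 1, fun q _ _ => Prod.ext ?_ ?_⟩
    · show q.1 ^ 2 ^ (k + l + 1 + 1) = 1
      exact orderOf_dvd_iff_pow_eq_one.1 ((Monoid.order_dvd_exponent _).trans (by
        rw [DihedralGroup.exponent]
        exact Nat.lcm_dvd (pow_dvd_pow 2 (by omega)) (dvd_pow_self 2 (by omega))))
    · show q.2 ^ 2 ^ (k + l + 1 + 1) = 1
      exact orderOf_dvd_iff_pow_eq_one.1 ((Monoid.order_dvd_exponent _).trans (by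
        rw [DihedralGroup.exponent]
        exact Nat.lcm_dvd (pow_dvd_pow 2 (by omega)) (dvd_pow_self 2 (by omega))))
  set n := Nat.find hex with hn
  have hN : ∀ q ∈ c.pre E, Rot q.1 → q ^ 2 ^ (n + 1) = 1 := Nat.find_spec hex
  have hwit : ∃ w ∈ c.pre E, Rot w.1 ∧ w ^ 2 ^ n ≠ 1 := by
    obtain ⟨q, hq, hr, hne⟩ := hb
    by_contra h
    push Not at h
    rcases Nat.eq_zero_or_pos n with hz | hpos
    · have := h q hq hr
      rw [hz, pow_zero, pow_one] at this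
      exact hne (by rw [this]; simp)
    · refine Nat.find_min hex (show n - 1 < n by omega) ?_
      rw [Nat.sub_add_cancel hpos]
      exact h
  have hpow : ∀ q ∈ c.pre E, Rot q.1 → (q ^ 2 ^ n).1 * (q ^ 2 ^ n).1 = 1 ∧
      (q ^ 2 ^ n).2 * (q ^ 2 ^ n).2 = 1 := by
    intro q hq hr
    have := hN q hq hr
    rw [pow_succ 2 n, pow_mul, sq] at this
    exact ⟨congrArg Prod.fst this, congrArg Prod.snd this⟩
  have hrotpow : ∀ (m : ℕ) {j : ℕ} {a : Dk j}, Rot a → Rot (a ^ m) := by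
    intro m j a ha
    induction m with
    | zero => rw [pow_zero]; exact rot_one
    | succ m ih => rw [pow_succ]; exact ih.mul ha
  have hP : ∀ q ∈ c.pre E, Rot q.1 → ((q ^ 2 ^ n).1 = 1 ∨ (q ^ 2 ^ n).1 = zk k) ∧
      ((q ^ 2 ^ n).2 = 1 ∨ (q ^ 2 ^ n).2 = zk l) := fun q hq hr =>
    ⟨(hrotpow _ hr).eq_one_or_z (hpow q hq hr).1,
     (hrotpow _ ((hnm q hq).1 hr)).eq_one_or_z (hpow q hq hr).2⟩
  by_cases hfull : (∃ u ∈ c.pre E, Rot u.1 ∧ u ^ 2 ^ n = (zk k, 1)) ∧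
      ∃ v ∈ c.pre E, Rot v.1 ∧ v ^ 2 ^ n = (1, zk l)
  · obtain ⟨⟨u, hu, hur, hue⟩, v, hv, hvr, hve⟩ := hfull
    left
    have hord : orderOf v.2 = 2 ^ (n + 1) :=
      orderOf_eq_prime_pow (by rw [← Prod.pow_snd, hve]; exact z_ne_one)
        (by rw [← Prod.pow_snd, hN v hv hvr]; rfl)
    have hu2 : u.2 ∈ zpowers v.2 := ((hnm u hu).1 hur).mem_zpowers ((hnm v hv).1 hvr) (by
      rw [hord]; exact orderOf_dvd_of_pow_eq_one (by rw [← Prod.pow_snd, hN u hu hur]; rfl))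
    obtain ⟨j, hj⟩ := mem_zpowers_iff.1 hu2
    set a := u.1 * (v.1 ^ j)⁻¹ with ha
    have hamem : (a, (1 : Dk l)) ∈ c.pre E := by
      have := mul_mem hu (inv_mem (zpow_mem hv j))
      convert this using 1
      refine Prod.ext rfl ?_
      show (1 : Dk l) = u.2 * (v.2 ^ j)⁻¹
      rw [hj, mul_inv_cancel]
    have hvj : Rot (v.1 ^ j) := by
      obtain ⟨i, hi⟩ := hvr
      rw [hi]
      rcases Int.eq_nat_or_neg j with ⟨m, rfl | rfl⟩
      · rw [zpow_natCast]; exact hrotpow m ⟨i, rfl⟩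
      · rw [zpow_neg, zpow_natCast]; exact (hrotpow m ⟨i, rfl⟩).inv
    have har : Rot a := hur.mul hvj.inv
    have hcomm : Commute u.1 (v.1 ^ j)⁻¹ := hur.comm hvj.inv
    have hapow : a ^ 2 ^ n = zk k := by
      have h1 : v.1 ^ 2 ^ n = 1 := by rw [← Prod.pow_fst, hve]
      rw [ha, hcomm.mul_pow, ← Prod.pow_fst, hue, inv_pow, ← zpow_natCast, ← zpow_mul,
        mul_comm j, zpow_mul, zpow_natCast, h1, one_zpow, inv_one, mul_one]
    have hoa : orderOf a = 2 ^ (n + 1) :=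
      orderOf_eq_prime_pow (by rw [hapow]; exact z_ne_one)
        (by rw [pow_succ 2 n, pow_mul, hapow, sq, z_sq])
    refine c.isProd_of_rot_prod hE hnm fun q hq hr => ?_
    obtain ⟨i, hi⟩ := mem_zpowers_iff.1 (hr.mem_zpowers har (by
      rw [hoa]; exact orderOf_dvd_of_pow_eq_one (by rw [← Prod.pow_fst, hN q hq hr]; rfl)))
    have := zpow_mem hamem i
    convert this using 1
    exact Prod.ext hi.symm (one_zpow i).symm
  right
  intro g hg ho
  have hEp : IsPGroup 2 E := S.2.to_le hE.fn.le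
  set R : Subgroup G :=
    { carrier := {x | ∃ q ∈ c.pre E, Rot q.1 ∧ c.f q = x}
      one_mem' := ⟨1, one_mem _, rot_one, map_one _⟩
      mul_mem' := by
        rintro _ _ ⟨a, ha, har, rfl⟩ ⟨b, hb, hbr, rfl⟩
        exact ⟨a * b, mul_mem ha hb, har.mul hbr, map_mul _ _ _⟩
      inv_mem' := by
        rintro _ ⟨a, ha, har, rfl⟩
        exact ⟨a⁻¹, inv_mem ha, har.inv, map_inv _ _⟩ } with hR
  have hRE : R ≤ E := by rintro _ ⟨q, hq, -, rfl⟩; exact hq
  have hsq : ∀ q ∈ c.pre E, q * q ≠ 1 → Rot q.1 := fun q hq hne => rot_of_not_refl fun h => hne (by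
    have h2 : Refl q.2 := (rot_or_refl q.2).resolve_left fun h2 => ((hnm q hq).2 h2).not_refl h
    exact Prod.ext h.sq h2.sq)
  have hbig : ∀ q ∈ c.pre E, q * q ≠ 1 → ∀ q', g * c.f q * g⁻¹ = c.f q' → q' * q' ≠ 1 :=
    fun q hq hne q' he => c.ne_one_of_pull (c.sq_of_pull he) hne
  obtain ⟨w, hw, hwr, hwn⟩ := hwit
  have hw2 : w * w ≠ 1 := by
    intro h
    rcases Nat.eq_zero_or_pos n with hz | hpos
    · obtain ⟨q, hq, hr, hne⟩ := hb
      have := hN q hq hr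
      rw [hz, zero_add, pow_one, sq] at this
      exact hne (congrArg Prod.fst this)
    · apply hwn
      obtain ⟨m, hm⟩ : ∃ m, 2 ^ n = 2 * m := ⟨2 ^ (n - 1), by
        rw [← pow_succ', Nat.sub_add_cancel hpos]⟩
      rw [hm, pow_mul, sq, h, one_pow]
  have hgR : ∀ q ∈ c.pre E, Rot q.1 → ∃ q' ∈ c.pre E, Rot q'.1 ∧ g * c.f q * g⁻¹ = c.f q' := by
    intro q hq hr
    by_cases hne : q * q = 1
    · have hwq : w * q * (w * q) ≠ 1 := by
        have hcm : Commute w q := Prod.ext (hwr.comm hr) (((hnm w hw).1 hwr).comm ((hnm q hq).1 hr))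
        rw [← sq, hcm.mul_pow, sq, sq, hne, mul_one]
        exact hw2
      obtain ⟨a, ha, hae⟩ := c.pull hE.fn.le hg (mul_mem hw hq)
      obtain ⟨b, hb, hbe⟩ := c.pull hE.fn.le hg hw
      refine ⟨b⁻¹ * a, mul_mem (inv_mem hb) ha,
        (hsq b hb (hbig w hw hw2 b hbe)).inv.mul (hsq a ha (hbig _ (mul_mem hw hq) hwq a hae)), ?_⟩
      rw [map_mul, map_inv, ← hae, ← hbe, map_mul]; group
    · obtain ⟨a, ha, hae⟩ := c.pull hE.fn.le hg hq
      exact ⟨a, ha, hsq a ha (hbig q hq hne a hae), hae⟩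
  have hgR' : ∀ x ∈ R, g * x * g⁻¹ ∈ R := by
    rintro _ ⟨q, hq, hr, rfl⟩
    obtain ⟨q', hq', hr', he⟩ := hgR q hq hr
    exact ⟨q', hq', hr', he.symm⟩
  set z₁ := c.f (zk k, 1) with hz₁
  set z₂ := c.f (1, zk l) with hz₂
  set z₃ := c.f (zk k, zk l) with hz₃
  have hinv : ∀ q ∈ c.pre E, Rot q.1 → q * q = 1 →
      q = 1 ∨ q = (zk k, 1) ∨ q = (1, zk l) ∨ q = (zk k, zk l) := by
    rintro ⟨a, b⟩ hq hr hqq
    rcases hr.eq_one_or_z (congrArg Prod.fst hqq) with rfl | rfl <;>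
      rcases (((hnm _ hq).1 hr).eq_one_or_z (congrArg Prod.snd hqq)) with h | h <;>
      simp only at h <;> subst h <;> simp
  have hz3 : (zk k, zk l) ∈ c.pre E := by
    have := mul_mem (c.z_left_mem hE) (c.z_right_mem hE)
    simpa using this
  have himg : ∀ q ∈ c.pre E, Rot q.1 → q * q = 1 → q ≠ 1 →
      g * c.f q * g⁻¹ = z₁ ∨ g * c.f q * g⁻¹ = z₂ ∨ g * c.f q * g⁻¹ = z₃ := by
    intro q hq hr hqq hne
    obtain ⟨q', hq', hr', he⟩ := hgR q hq hr
    have h1 := c.ne_one_of_pull he hne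
    have h2 : q' * q' = 1 := c.inj (by rw [← c.sq_of_pull he, hqq, map_one]; group)
    rcases hinv q' hq' hr' h2 with rfl | rfl | rfl | rfl
    · exact absurd rfl h1
    all_goals simp [he, hz₁, hz₂, hz₃]
  have hone : (1 : Dk k) ≠ zk k := z_ne_one.symm
  have hone' : (1 : Dk l) ≠ zk l := z_ne_one.symm
  have ne12 : z₁ ≠ z₂ := fun h => hone.symm (congrArg Prod.fst (c.inj h))
  have ne13 : z₁ ≠ z₃ := fun h => hone' (congrArg Prod.snd (c.inj h))
  have ne23 : z₂ ≠ z₃ := fun h => hone (congrArg Prod.fst (c.inj h))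
  have i1 := himg _ (c.z_left_mem hE) rot_z (by simp [z_sq]) (fun h => hone.symm (congrArg Prod.fst h))
  have i2 := himg _ (c.z_right_mem hE) rot_one (by simp [z_sq]) (fun h => hone'.symm (congrArg Prod.snd h))
  have i3 := himg _ hz3 rot_z (by simp [z_sq]) (fun h => hone.symm (congrArg Prod.fst h))
  obtain ⟨w', hw', hwr', hwe⟩ := hgR w hw hwr
  have hgp := c.pow_of_pull hwe (2 ^ n)
  have hw'n : w' ^ 2 ^ n ≠ 1 := c.ne_one_of_pull hgp hwn
  have hcases : ∀ q ∈ c.pre E, Rot q.1 → q ^ 2 ^ n ≠ 1 →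
      (q ^ 2 ^ n = (zk k, 1) ∨ q ^ 2 ^ n = (1, zk l) ∨ q ^ 2 ^ n = (zk k, zk l)) := by
    intro q hq hr hne
    obtain ⟨h1, h2⟩ := hP q hq hr
    rcases h1 with h1 | h1 <;> rcases h2 with h2 | h2
    · exact absurd (Prod.ext h1 h2) hne
    · exact Or.inr (Or.inl (Prod.ext h1 h2))
    · exact Or.inl (Prod.ext h1 h2)
    · exact Or.inr (Or.inr (Prod.ext h1 h2))
  have hcommR : ∀ a ∈ c.pre E, Rot a.1 → ∀ b ∈ c.pre E, Rot b.1 → Commute a b :=
    fun a ha har b hb hbr => Prod.ext (har.comm hbr) (((hnm a ha).1 har).comm ((hnm b hb).1 hbr))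
  have hsame : w' ^ 2 ^ n = w ^ 2 ^ n := by
    by_contra hdiff
    have hp := (hcommR w' hw' hwr' w hw hwr).mul_pow (2 ^ n)
    rcases hcases w hw hwr hwn with e | e | e <;> rcases hcases w' hw' hwr' hw'n with e' | e' | e'
    all_goals first | (exact hdiff (e'.trans e.symm)) | skip
    all_goals apply hfull
    · exact ⟨⟨w, hw, hwr, e⟩, w', hw', hwr', e'⟩
    · exact ⟨⟨w, hw, hwr, e⟩, w' * w, mul_mem hw' hw, hwr'.mul hwr, by rw [hp, e, e']; simp [z_sq]⟩
    · exact ⟨⟨w', hw', hwr', e'⟩, w, hw, hwr, e⟩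
    · exact ⟨⟨w' * w, mul_mem hw' hw, hwr'.mul hwr, by rw [hp, e, e']; simp [z_sq]⟩, w, hw, hwr, e⟩
    · exact ⟨⟨w', hw', hwr', e'⟩, w' * w, mul_mem hw' hw, hwr'.mul hwr, by rw [hp, e, e']; simp [z_sq]⟩
    · exact ⟨⟨w' * w, mul_mem hw' hw, hwr'.mul hwr, by rw [hp, e, e']; simp [z_sq]⟩, w', hw', hwr', e'⟩
  rw [hsame] at hgp
  have hfix : g * z₁ * g⁻¹ = z₁ ∧ g * z₂ * g⁻¹ = z₂ ∧ g * z₃ * g⁻¹ = z₃ := by
    rcases hcases w hw hwr hwn with e | e | e <;> rw [e] at hgp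
    · exact ⟨hgp, fix_of_three ho hgp ne12 ne13 i2 i3,
        fix_of_three ho hgp ne13 ne12 (by tauto) (by tauto)⟩
    · exact ⟨fix_of_three ho hgp ne12.symm ne23 (by tauto) (by tauto), hgp,
        fix_of_three ho hgp ne23 ne12.symm (by tauto) (by tauto)⟩
    · exact ⟨fix_of_three ho hgp ne13.symm ne23.symm (by tauto) (by tauto),
        fix_of_three ho hgp ne23.symm ne13.symm (by tauto) (by tauto), hgp⟩
  have hRfix : ∀ x ∈ R, g * x * g⁻¹ = x := by
    refine fix_abelian ho hgR' ?_ (hEp.to_le hRE) ?_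
    · rintro _ ⟨a, ha, har, rfl⟩ _ ⟨b, hb, hbr, rfl⟩
      exact (hcommR a ha har b hb hbr).map c.f
    · rintro _ ⟨q, hq, hr, rfl⟩ hqq
      rw [← map_mul] at hqq
      rcases hinv q hq hr (c.inj (hqq.trans (map_one _).symm)) with rfl | rfl | rfl | rfl
      · simp
      · exact hfix.1
      · exact hfix.2.1
      · exact hfix.2.2
  intro x hx
  obtain ⟨q, hq, rfl⟩ := c.exists_pre hE.fn.le hx
  rcases rot_or_refl q.1 with hr | hr
  · exact hRfix _ ⟨q, hq, hr, rfl⟩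
  obtain ⟨q', hq', he⟩ := c.pull hE.fn.le hg hq
  have hr' : Refl q'.1 := (rot_or_refl q'.1).resolve_left fun hrot => by
    have h1 := hRfix _ ⟨q', hq', hrot, rfl⟩
    nth_rw 2 [← he] at h1
    have h2 : c.f q' = c.f q := mul_left_cancel (mul_right_cancel h1)
    exact (c.inj h2 ▸ hrot).not_refl hr
  have hrR : c.f (q⁻¹ * q') ∈ R :=
    ⟨_, mul_mem (inv_mem hq) hq', by rw [Prod.fst_mul, Prod.fst_inv, hr.inv]; exact hr.mul hr', rfl⟩
  obtain ⟨i, hi⟩ := (hEp.to_le hRE) ⟨_, hrR⟩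
  refine fix_of_shift ho (hRfix _ hrR) ?_ (k := i) (congrArg Subtype.val hi)
  rw [he, map_mul, map_inv, mul_inv_cancel_left]

end Coord

end Cfsg.Agent.ProductFusion.DD
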