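import Cfsg.Prelude.Def_TwoFusion
import Cfsg.Agent.Techniques.Alperin.Radical
import Cfsg.Agent.Techniques.Functor.TransferResults
import Cfsg.Agent.Lib.Coprime.Commutator
import Cfsg.Agent.Solvable.Basics

/-!
Tools for fusion in a Sylow 2-subgroup: preserved sets, radical subgroups, automorphisms of odd
order.
-/

set_option autoImplicit false
set_option linter.style.haveILetI false
set_option linter.unusedSectionVars false

open Subgroup
open scoped commutatorElement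

namespace Cfsg.Agent.ProductFusion.DD

open Cfsg.Agent.Techniques.Alperin.Basic Cfsg.Agent.Techniques.Alperin.Chain
open Cfsg.Agent.Techniques.Alperin.Radical

universe u

variable {G : Type u} [Group G]

lemma conj_pow_eq {g x : G} (h : g * x * g⁻¹ = x) (i : ℕ) : g ^ i * x * (g ^ i)⁻¹ = x := by
  induction i with
  | zero => simp
  | succ i ih =>
    rw [pow_succ]
    calc g ^ i * g * x * (g ^ i * g)⁻¹ = g ^ i * (g * x * g⁻¹) * (g ^ i)⁻¹ := by group
      _ = x := by rw [h, ih]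

/-- An element of odd order whose square fixes `x` fixes `x`. -/
lemma fix_of_sq {g x : G} (hg : Odd (orderOf g))
    (h : g * (g * x * g⁻¹) * g⁻¹ = x) : g * x * g⁻¹ = x := by
  obtain ⟨k, hk⟩ := hg
  have h2 : g * g * x * (g * g)⁻¹ = x := by
    rw [show g * g * x * (g * g)⁻¹ = g * (g * x * g⁻¹) * g⁻¹ by group, h]
  have h3 := conj_pow_eq h2 (k + 1)
  have h4 : (g * g) ^ (k + 1) = g := by
    rw [← sq, ← pow_mul, show 2 * (k + 1) = (2 * k + 1) + 1 by ring, pow_succ, ← hk,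
      pow_orderOf_eq_one, one_mul]
  rwa [h4] at h3

/-- In an invariant three-element set with a fixed member everything is fixed. -/
lemma fix_of_three {g a b c : G} (hg : Odd (orderOf g)) (ha : g * a * g⁻¹ = a) (hab : a ≠ b)
    (hac : a ≠ c) (hb : g * b * g⁻¹ = a ∨ g * b * g⁻¹ = b ∨ g * b * g⁻¹ = c)
    (hc : g * c * g⁻¹ = a ∨ g * c * g⁻¹ = b ∨ g * c * g⁻¹ = c) : g * b * g⁻¹ = b := by
  have inj : ∀ {x y : G}, g * x * g⁻¹ = g * y * g⁻¹ → x = y := fun h =>
    mul_left_cancel (mul_right_cancel h)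
  rcases hb with hb | hb | hb
  · exact absurd (inj (ha.trans hb.symm)) hab
  · exact hb
  · rcases hc with hc | hc | hc
    · exact absurd (inj (ha.trans hc.symm)) hac
    · exact fix_of_sq hg (by rw [hb, hc])
    · rw [hb]; exact inj (hc.trans hb.symm)

lemma eq_one_of_pow_odd {x : G} {n k : ℕ} (hn : Odd n) (h : x ^ n = 1) (hk : x ^ 2 ^ k = 1) :
    x = 1 := by
  rw [← orderOf_eq_one_iff]
  exact Nat.eq_one_of_dvd_coprimes ((Nat.coprime_two_left.2 hn).pow_left k)
    (orderOf_dvd_of_pow_eq_one hk) (orderOf_dvd_of_pow_eq_one h)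

/-- An element of odd order moving `x` by a fixed 2-element fixes `x`. -/
lemma fix_of_shift {g x r : G} (hg : Odd (orderOf g)) (hr : g * r * g⁻¹ = r)
    (hx : g * x * g⁻¹ = x * r) {k : ℕ} (hk : r ^ 2 ^ k = 1) : g * x * g⁻¹ = x := by
  have h : ∀ i : ℕ, g ^ i * x * (g ^ i)⁻¹ = x * r ^ i := by
    intro i
    induction i with
    | zero => simp
    | succ i ih =>
      rw [pow_succ g]
      calc g ^ i * g * x * (g ^ i * g)⁻¹ = g ^ i * (g * x * g⁻¹) * (g ^ i)⁻¹ := by group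
        _ = g ^ i * x * (g ^ i)⁻¹ * (g ^ i * r * (g ^ i)⁻¹) := by rw [hx]; group
        _ = x * r ^ (i + 1) := by rw [ih, conj_pow_eq hr, pow_succ, mul_assoc]
  have := h (orderOf g)
  rw [pow_orderOf_eq_one, one_mul, inv_one, mul_one] at this
  rw [hx, eq_one_of_pow_odd hg (by simpa using this) hk, mul_one]

/-- Invariance of membership in a subgroup with parity, one step above an invariant subgroup. -/
lemma parity_fix {g x : G} {M : Subgroup G} {R E : Subgroup G} (hg : Odd (orderOf g))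
    (hgR : ∀ y ∈ R, g * y * g⁻¹ ∈ R) (hRE : R ≤ E) (hgE : g ∈ normalizer (E : Set G)) (hx : x ∈ E)
    (hρ : x⁻¹ * (g * x * g⁻¹) ∈ R)
    (hM : ∀ a ∈ E, ∀ b ∈ E, (a * b ∈ M ↔ (a ∈ M ↔ b ∈ M)))
    (hR : ∀ y ∈ R, (y ∈ M ↔ g * y * g⁻¹ ∈ M)) : x ∈ M ↔ g * x * g⁻¹ ∈ M := by
  set ρ := x⁻¹ * (g * x * g⁻¹) with hρd
  by_cases hρM : ρ ∈ M
  · have e : g * x * g⁻¹ = x * ρ := by rw [hρd]; group
    rw [e, hM x hx ρ (hRE hρ)]
    simp [hρM]
  exfalso
  have hm : ∀ i : ℕ, g ^ i * ρ * (g ^ i)⁻¹ ∈ R ∧ g ^ i * ρ * (g ^ i)⁻¹ ∉ M ∧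
      g ^ i * x * (g ^ i)⁻¹ ∈ E := by
    intro i
    induction i with
    | zero => simp [hρ, hρM, hx]
    | succ i ih =>
      obtain ⟨h1, h2, h3⟩ := ih
      have e : ∀ y : G, g ^ (i + 1) * y * (g ^ (i + 1))⁻¹ = g * (g ^ i * y * (g ^ i)⁻¹) * g⁻¹ := by
        intro y; rw [pow_succ']; group
      rw [e, e]
      exact ⟨hgR _ h1, fun h => h2 ((hR _ h1).2 h), (mem_normalizer_iff.1 hgE _).1 h3⟩
  have h : ∀ i : ℕ, (g ^ i * x * (g ^ i)⁻¹ ∈ M ↔ (x ∈ M ↔ Even i)) := by
    intro i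
    induction i with
    | zero => simp
    | succ i ih =>
      obtain ⟨h1, h2, h3⟩ := hm i
      have e : g ^ (i + 1) * x * (g ^ (i + 1))⁻¹ =
          g ^ i * x * (g ^ i)⁻¹ * (g ^ i * ρ * (g ^ i)⁻¹) := by
        rw [hρd, pow_succ]; group
      rw [e, hM _ h3 _ (hRE h1), ih, Nat.even_add_one]
      tauto
  have := h (orderOf g)
  rw [pow_orderOf_eq_one, one_mul, inv_one, mul_one] at this
  have hne := Nat.not_even_iff_odd.2 hg
  tauto

/-- An element of odd order fixing the involutions of an invariant abelian 2-subgroup fixes it. -/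
lemma fix_abelian {g : G} {R : Subgroup G} (hg : Odd (orderOf g))
    (hgR : ∀ y ∈ R, g * y * g⁻¹ ∈ R) (hc : ∀ a ∈ R, ∀ b ∈ R, a * b = b * a)
    (hR : IsPGroup 2 R) (hinv : ∀ y ∈ R, y * y = 1 → g * y * g⁻¹ = y) :
    ∀ y ∈ R, g * y * g⁻¹ = y := by
  intro y hy
  obtain ⟨k, hk⟩ := hR ⟨y, hy⟩
  have hk' : y ^ 2 ^ k = 1 := congrArg Subtype.val hk
  clear hk
  induction k generalizing y with
  | zero => rw [pow_zero, pow_one] at hk'; simp [hk']
  | succ k ih =>
    have hsq := ih (y * y) (mul_mem hy hy) (by rw [← sq, ← pow_mul, ← pow_succ']; exact hk')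
    set r := y⁻¹ * (g * y * g⁻¹) with hr
    have hrR : r ∈ R := mul_mem (inv_mem hy) (hgR y hy)
    have hgy : g * y * g⁻¹ = y * r := by rw [hr]; group
    have hr2 : r * r = 1 := by
      have h2 : g * y * g⁻¹ * (g * y * g⁻¹) = y * y := by
        rw [← hsq]; group
      rw [hgy, mul_assoc, ← mul_assoc r y, hc r hrR y hy, mul_assoc, ← mul_assoc] at h2
      exact mul_eq_left.1 h2
    exact fix_of_shift hg (hinv r hrR hr2) hgy (k := 1) (by rw [pow_one, sq, hr2])

section Finite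

variable [Finite G]

/-- A subgroup of `N_G(E)` containing the Sylow subgroup and all elements of odd order. -/
lemma normalizer_le_of_odd {S : Sylow 2 G} {E M : Subgroup G}
    (hE : FullyNormalized 2 (S : Subgroup G) E)
    (hS : (S : Subgroup G) ⊓ normalizer (E : Set G) ≤ M)
    (hodd : ∀ g ∈ normalizer (E : Set G), Odd (orderOf g) → g ∈ M) :
    normalizer (E : Set G) ≤ M := by
  haveI : Fact (Nat.Prime 2) := ⟨Nat.prime_two⟩
  set N := normalizer (E : Set G) with hN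
  obtain ⟨S₀, hS₀⟩ := hE.syl
  have hle : (S₀ : Subgroup ↥N) ≤ M.subgroupOf N := fun x hx =>
    mem_subgroupOf.2 (hS (hS₀.le ⟨x, hx, rfl⟩))
  set O := closure {x : ↥N | Odd (orderOf x)} with hO
  haveI hOn : O.Normal := by
    refine ⟨fun n hn g => ?_⟩
    have : O ≤ O.comap (MulAut.conj g).toMonoidHom := by
      rw [hO, closure_le]
      intro z hz
      refine Subgroup.subset_closure ?_
      show Odd (orderOf (MulAut.conj g z))
      rwa [(MulAut.conj g).orderOf_eq]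
    exact this hn
  have hOM : O ≤ M.subgroupOf N := by
    rw [hO, closure_le]
    intro x hx
    exact mem_subgroupOf.2 (hodd x x.2 (by rwa [Subgroup.orderOf_coe]))
  have hp : IsPGroup 2 (↥N ⧸ O) := by
    intro q
    obtain ⟨x, rfl⟩ := QuotientGroup.mk_surjective q
    obtain ⟨a, b, hb, hab⟩ := Nat.exists_eq_two_pow_mul_odd (orderOf_pos x).ne'
    refine ⟨a, ?_⟩
    rw [← QuotientGroup.mk_pow, QuotientGroup.eq_one_iff]
    refine Subgroup.subset_closure ?_
    show Odd (orderOf (x ^ 2 ^ a))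
    exact hb.of_dvd_nat (orderOf_dvd_of_pow_eq_one (by rw [← pow_mul, ← hab, pow_orderOf_eq_one]))
  obtain ⟨j, hj⟩ := hp.exists_card_eq
  have h1 : (M.subgroupOf N).index ∣ 2 ^ j := by
    rw [← hj, ← index_eq_card]; exact index_dvd_of_le hOM
  have h2 : (M.subgroupOf N).index ∣ S₀.index := index_dvd_of_le hle
  have h3 : (M.subgroupOf N).index = 1 :=
    Nat.eq_one_of_dvd_coprimes
      ((Nat.prime_two.coprime_iff_not_dvd.2 S₀.not_dvd_index).pow_left j) h1 h2
  intro x hx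
  exact mem_subgroupOf.1 ((index_eq_one.1 h3).ge (mem_top ⟨x, hx⟩))

/-- A set invariant under `S` and under the elements of odd order in the centric radical
normalizers is fusion invariant. -/
theorem preserved (S : Sylow 2 G) (Q : Set G)
    (hS : ∀ s ∈ S, ∀ x ∈ S, (x ∈ Q ↔ s * x * s⁻¹ ∈ Q))
    (hodd : ∀ E : Subgroup G, IsCR 2 (S : Subgroup G) E → ∀ g ∈ normalizer (E : Set G),
      Odd (orderOf g) → ∀ x ∈ E, x ∈ Q → g * x * g⁻¹ ∈ Q) :
    ∀ x ∈ S, ∀ g : G, g * x * g⁻¹ ∈ S → (x ∈ Q ↔ g * x * g⁻¹ ∈ Q) := by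
  haveI : Fact (Nat.Prime 2) := ⟨Nat.prime_two⟩
  have key : ∀ (D : Subgroup G), IsCR 2 (S : Subgroup G) D → ∀ n ∈ normalizer (D : Set G),
      ∀ d ∈ D, (d ∈ Q ↔ n * d * n⁻¹ ∈ Q) := by
    intro D hD
    let M : Subgroup G :=
      { carrier := {n | n ∈ normalizer (D : Set G) ∧ ∀ d ∈ D, (d ∈ Q ↔ n * d * n⁻¹ ∈ Q)}
        one_mem' := ⟨one_mem _, fun d _ => by simp⟩
        mul_mem' := by
          rintro a b ⟨ha, ha'⟩ ⟨hb, hb'⟩
          refine ⟨mul_mem ha hb, fun d hd => ?_⟩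
          rw [hb' d hd, ha' _ ((mem_normalizer_iff.1 hb d).1 hd),
            show a * (b * d * b⁻¹) * a⁻¹ = a * b * d * (a * b)⁻¹ by group]
        inv_mem' := by
          rintro a ⟨ha, ha'⟩
          refine ⟨inv_mem ha, fun d hd => ?_⟩
          rw [inv_inv, ha' (a⁻¹ * d * a) (by
            simpa using (mem_normalizer_iff.1 (inv_mem ha) d).1 hd),
            show a * (a⁻¹ * d * a) * a⁻¹ = d by group] }
    have hM : normalizer (D : Set G) ≤ M := by
      refine normalizer_le_of_odd hD.fn (fun s hs => ⟨(mem_inf.1 hs).2, fun d hd =>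
        hS s (mem_inf.1 hs).1 d (hD.fn.le hd)⟩) fun g hg ho => ⟨hg, fun d hd => ⟨hodd D hD g hg ho d hd,
          fun h => ?_⟩⟩
      have := hodd D hD g⁻¹ (inv_mem hg) (by rwa [orderOf_inv]) _
        ((mem_normalizer_iff.1 hg d).1 hd) h
      rwa [show g⁻¹ * (g * d * g⁻¹) * g⁻¹⁻¹ = d by group] at this
    exact fun n hn => (hM hn).2
  have hch : ∀ (A : Set G) (g : G),
      Chain (S : Subgroup G) (fun D _ => IsCR 2 (S : Subgroup G) D) A g →
      ∀ a ∈ A, (a ∈ Q ↔ g⁻¹ * a * g ∈ Q) := by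
    intro A g h
    induction h with
    | one h => simp
    | @step A D x g hD hx hO hA _ ih =>
      intro a ha
      have h1 := key D hO x⁻¹ (inv_mem hx) a (hA ha)
      rw [inv_inv] at h1
      rw [h1, ih (x⁻¹ * a * x) ⟨a, ha, rfl⟩,
        show g⁻¹ * (x⁻¹ * a * x) * g = (x * g)⁻¹ * a * (x * g) by group]
  intro x hx g hg
  obtain ⟨c, hc, g', he, hgc⟩ := goldschmidt_chain S ({x} : Set G) g⁻¹ (by simpa using hx) (by
    rintro _ ⟨_, rfl, rfl⟩; simpa using hg)
  have h := hch _ _ hgc x rfl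
  have e : g * x * g⁻¹ = g'⁻¹ * x * g' := by
    have hcx : x * c = c * x := mem_centralizer_iff.1 hc x rfl
    rw [show g = (c * g')⁻¹ by rw [← he, inv_inv]]
    calc (c * g')⁻¹ * x * (c * g')⁻¹⁻¹ = g'⁻¹ * c⁻¹ * (x * c) * g' := by group
      _ = g'⁻¹ * x * g' := by rw [hcx]; group
  rw [h, e]

/-- A fusion invariant parity on `S` gives a normal subgroup of index two. -/
theorem index_two_of_parity (S : Sylow 2 G) (M : Subgroup G)
    (hM : ∀ a ∈ S, ∀ b ∈ S, (a * b ∈ M ↔ (a ∈ M ↔ b ∈ M)))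
    (hinv : ∀ x ∈ S, ∀ g : G, g * x * g⁻¹ ∈ S → (x ∈ M ↔ g * x * g⁻¹ ∈ M))
    {s : G} (hs : s ∈ S) (hsM : s ∉ M) : ∃ N : Subgroup G, N.Normal ∧ N.index = 2 := by
  haveI : Fact (Nat.Prime 2) := ⟨Nat.prime_two⟩
  refine Techniques.Functor.exists_normal_index_prime (S := S) fun hle => hsM ?_
  refine Transfer.Fusion.focal_le_of_fusion S (F := M) (fun x hx g hg => ⟨g, rfl, ?_⟩)
    (mem_inf.2 ⟨hle hs, hs⟩)
  rw [show ⁅x, g⁆ = x * (g * x * g⁻¹)⁻¹ by rw [commutatorElement_def]; group,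
    hM x hx _ (inv_mem hg), Subgroup.inv_mem_iff]
  exact hinv x hx g hg

/-- Trivial action modulo the squares of a centric radical subgroup forces membership. -/
theorem mem_of_trivial_mod_frattini {S : Sylow 2 G} {E : Subgroup G}
    (hE : IsCR 2 (S : Subgroup G) E) {x : G} (hxS : x ∈ S) (hxN : x ∈ normalizer (E : Set G))
    (h : ∀ e ∈ E, x * e * x⁻¹ * e⁻¹ ∈ (frattini ↥E).map E.subtype) : x ∈ E := by
  haveI : Fact (Nat.Prime 2) := ⟨Nat.prime_two⟩
  set N := normalizer (E : Set G) with hN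
  set K := (frattini ↥E).map E.subtype with hK
  have hKN : ∀ n ∈ N, ∀ k ∈ K, n * k * n⁻¹ ∈ K := by
    rintro n hn _ ⟨k, hk, rfl⟩
    exact ⟨E.normalizerMonoidHom ⟨n, hn⟩ k, (Subgroup.characteristic_iff_le_comap.1
      frattini_characteristic (E.normalizerMonoidHom ⟨n, hn⟩)) hk, rfl⟩
  let C : Subgroup ↥N :=
    { carrier := {n | ∀ e ∈ E, (n : G) * e * (n : G)⁻¹ * e⁻¹ ∈ K}
      one_mem' := fun e _ => by simp
      mul_mem' := by
        intro a b ha hb e he
        have := mul_mem (hKN _ a.2 _ (hb e he)) (ha e he)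
        rw [Subgroup.coe_mul]
        convert this using 1
        group
      inv_mem' := by
        intro a ha e he
        have h1 := inv_mem (ha ((a : G)⁻¹ * e * a) (by
          simpa using (mem_normalizer_iff.1 (inv_mem a.2) e).1 he))
        rw [Subgroup.coe_inv]
        convert h1 using 1
        group }
  haveI hCn : C.Normal := by
    refine ⟨fun n hn m e he => ?_⟩
    have he' : (m : G)⁻¹ * e * m ∈ E := by simpa using (mem_normalizer_iff.1 (inv_mem m.2) e).1 he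
    have := hKN _ m.2 _ (hn _ he')
    rw [Subgroup.coe_mul, Subgroup.coe_mul, Subgroup.coe_inv]
    convert this using 1
    group
  have hEp : IsPGroup 2 E := S.2.to_le hE.fn.le
  obtain ⟨f, hf⟩ := hEp.exists_card_eq
  have hsup : E ⊔ kOf 2 N = (E.subgroupOf N ⊔ Cfsg.pPrimeCore 2 ↥N).map N.subtype := by
    rw [Subgroup.map_sup, map_subgroupOf_eq_of_le (le_normalizer : E ≤ N)]
  have hC : C ≤ Cfsg.pPrimePCore 2 ↥N := by
    refine PLocal.Cores.le_pPrimePCore ?_
    rintro ⟨_, n, hn, rfl⟩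
    obtain ⟨a, b, hb, hab⟩ := Nat.exists_eq_two_pow_mul_odd (orderOf_pos n).ne'
    refine ⟨a, Subtype.ext ?_⟩
    show (QuotientGroup.mk' (Cfsg.pPrimeCore 2 ↥N) n) ^ 2 ^ a = 1
    have hy : Odd (orderOf (n ^ 2 ^ a)) :=
      hb.of_dvd_nat (orderOf_dvd_of_pow_eq_one (by rw [← pow_mul, ← hab, pow_orderOf_eq_one]))
    have hyC : ((n ^ 2 ^ a : ↥N) : G) ∈ centralizer (E : Set G) := by
      refine Coprime.le_centralizer_of_frattini (A := zpowers ((n ^ 2 ^ a : ↥N) : G)) ?_ ?_ ?_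
        (mem_zpowers _)
      · rw [zpowers_le]; exact (n ^ 2 ^ a).2
      · rw [Nat.card_zpowers, Subgroup.orderOf_coe]
        obtain ⟨i, -, hi⟩ := (Nat.dvd_prime_pow Nat.prime_two).1
          (hf ▸ Subgroup.card_subgroup_dvd_card (frattini ↥E))
        rw [hi]
        exact ((Nat.coprime_two_left.2 hy).symm).pow_right i
      · intro y hy' e he
        obtain ⟨j, rfl⟩ := mem_zpowers_iff.1 hy'
        have h1 := zpow_mem (pow_mem hn (2 ^ a)) j e he
        rwa [Subgroup.coe_zpow] at h1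
    obtain ⟨v, hv, w, hw, hvw⟩ : ∃ v ∈ E.subgroupOf N, ∃ w ∈ Cfsg.pPrimeCore 2 ↥N,
        v * w = n ^ 2 ^ a := by
      have h1 := hsup.le (hE.cent_le hyC)
      obtain ⟨u, hu, huy⟩ := h1
      rw [← Subtype.ext (huy : (u : G) = _)]
      exact mem_sup_of_normal_right.1 hu
    rw [← map_pow]
    refine eq_one_of_pow_odd (k := f) hy (by rw [← map_pow, pow_orderOf_eq_one, map_one]) ?_
    rw [← hvw, map_mul, (QuotientGroup.eq_one_iff w).2 hw |> (fun h => (h : QuotientGroup.mk' _ w = 1)),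
      mul_one, ← map_pow]
    convert map_one (QuotientGroup.mk' (Cfsg.pPrimeCore 2 ↥N))
    refine Subtype.ext ?_
    show (v : G) ^ 2 ^ f = 1
    have := congrArg Subtype.val (pow_card_eq_one' (G := ↥E) (x := ⟨v, mem_subgroupOf.1 hv⟩))
    rwa [hf] at this
  have hxm : x ∈ mOf 2 N := ⟨⟨x, hxN⟩, hC fun e he => h e he, rfl⟩
  rw [hE.radical] at hxm
  obtain ⟨u, hu, hux⟩ := hsup.le hxm
  obtain ⟨v, hv, w, hw, rfl⟩ := mem_sup_of_normal_right.1 hu
  have hux' : (v : G) * w = x := hux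
  have hwS : (w : G) ∈ S := by
    have := mul_mem (inv_mem (hE.fn.le (mem_subgroupOf.1 hv))) hxS
    rwa [← hux', inv_mul_cancel_left] at this
  obtain ⟨i, hi⟩ := S.2 ⟨w, hwS⟩
  have h1 : (w : G) = 1 := by
    refine eq_one_of_pow_odd (n := Nat.card (Cfsg.pPrimeCore 2 ↥N)) (k := i)
      (Nat.coprime_two_right.1 PLocal.Cores.coprime_card_pPrimeCore) ?_ (congrArg Subtype.val hi)
    have h2 : w ^ Nat.card (Cfsg.pPrimeCore 2 ↥N) = 1 :=
      orderOf_dvd_iff_pow_eq_one.1 ((Cfsg.pPrimeCore 2 ↥N).orderOf_dvd_natCard hw)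
    rw [← Subgroup.coe_pow, h2, Subgroup.coe_one]
  rw [← hux', h1, mul_one]
  exact mem_subgroupOf.1 hv

/-- A product of two squares of elements of a 2-subgroup lies in its Frattini subgroup. -/
lemma sq_mem {E : Subgroup G} (hE : IsPGroup 2 E) {a : G} (ha : a ∈ E) :
    a * a ∈ (frattini ↥E).map E.subtype := by
  haveI : Fact (Nat.Prime 2) := ⟨Nat.prime_two⟩
  exact ⟨⟨a, ha⟩ ^ 2, Solvable.Basics.pow_mem_frattini hE _, by simp [sq]⟩

end Finite

end Cfsg.Agent.ProductFusion.DD
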